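import Cfsg.Agent.H142.Der.TwoRow
import Cfsg.Agent.H190.Exc.FinE6

/-!
# `E₆(q)` and `²E₆(q)` in S3502: the final statements (helper142, task 2986)

* `rowS_e6`, `rowS_2e6`
-/

set_option autoImplicit false

namespace Cfsg.Agent.H142.Der

open Cfsg Cfsg.Lie Cfsg.Agent.OrdDiv Cfsg.Agent.H439.Der

universe u

/-- **`E₆(q)`.** -/
theorem rowS_e6 {T : Type u} [Group T] [Finite T] (h : Cfsg.Lie.IsoChevE6 T) : RowS T :=
  rowS_e6_of (fun F _ _ R hR => Cfsg.Agent.H190.Exc.full_isoE6 (T := ↥(chevE6.group F))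
    ⟨F, inferInstance, inferInstance, ⟨MulEquiv.refl _⟩⟩ R hR) h

/-- **`²E₆(q)`.** -/
theorem rowS_2e6 {T : Type u} [Group T] [Finite T] (h : Cfsg.Lie.Iso2E6 T) : RowS T :=
  rowS_2e6_of table (fun _ _ _ _ => Cfsg.Agent.S0000.result)
    (fun K _ _ q hq hK R hR => Cfsg.Agent.H190.Exc.full_isoTE6 (T := ↥(twistedE6 K q))
      ⟨K, inferInstance, inferInstance, q, hq, hK, ⟨MulEquiv.refl _⟩⟩ R hR) h

end Cfsg.Agent.H142.Der
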