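import Mathlib

/-!
# S3502 for `E₆(q)`, `²E₆(q)`: the numbers (helper142)
-/

set_option autoImplicit false

namespace Cfsg.Agent.H142.Der

section ring

variable {R : Type*} [CommRing R] {x : R}

/-- class 8 -/
theorem eight_id (h : x ^ 4 + 1 = 0) :
    x ^ 36 * ((x ^ 5 - 1) * (x ^ 6 - 1) * (x ^ 4 - 1) * (x ^ 9 - 1) * (x ^ 12 - 1)) = 8 := by
  have h4 : x ^ 4 = -1 := by linear_combination h
  have h36 : x ^ 36 = -1 := by
    calc x ^ 36 = (x ^ 4) ^ 9 := by ring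
      _ = -1 := by rw [h4]; norm_num
  have h12 : x ^ 12 = -1 := by
    calc x ^ 12 = (x ^ 4) ^ 3 := by ring
      _ = -1 := by rw [h4]; norm_num
  have h9 : x ^ 9 = x := by
    calc x ^ 9 = (x ^ 4) ^ 2 * x := by ring
      _ = x := by rw [h4]; ring
  have h5 : x ^ 5 = -x := by
    calc x ^ 5 = x ^ 4 * x := by ring
      _ = -x := by rw [h4]; ring
  have h6 : x ^ 6 = -x ^ 2 := by
    calc x ^ 6 = x ^ 4 * x ^ 2 := by ring
      _ = -x ^ 2 := by rw [h4]; ring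
  rw [h36, h12, h9, h5, h6, h4]
  linear_combination (-4) * h

/-- class 12 -/
theorem twelve_id (h : x ^ 4 - x ^ 2 + 1 = 0) :
    x ^ 36 * ((x ^ 2 - 1) * (x ^ 5 - 1) * (x ^ 6 - 1) * (x ^ 8 - 1) * ((x - 1) * (x ^ 6 + x ^ 3 + 1)) *
      ((x ^ 6 - 1) * (x ^ 2 + 1))) = 12 := by
  have h6 : x ^ 6 = -1 := by linear_combination (x ^ 2 + 1) * h
  have h36 : x ^ 36 = 1 := by
    calc x ^ 36 = (x ^ 6) ^ 6 := by ring
      _ = 1 := by rw [h6]; norm_num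
  have h8 : x ^ 8 = -x ^ 2 := by
    calc x ^ 8 = x ^ 6 * x ^ 2 := by ring
      _ = -x ^ 2 := by rw [h6]; ring
  have h5 : x ^ 5 = x ^ 3 - x := by linear_combination x * h
  rw [h36, h8, h5, h6]
  have e1 : (x ^ 2 - 1) * (-x ^ 2 - 1) = 2 - x ^ 2 := by linear_combination (-1) * h
  have e2 : (x ^ 3 - x - 1) * ((x - 1) * (-1 + x ^ 3 + 1)) * (x ^ 2 + 1) * (2 - x ^ 2) = 3 := by
    linear_combination (-3 - 3 * x ^ 2 + 2 * x ^ 3 + x ^ 5 + x ^ 6 - x ^ 7) * h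
  calc 1 * ((x ^ 2 - 1) * (x ^ 3 - x - 1) * (-1 - 1) * (-x ^ 2 - 1) * ((x - 1) * (-1 + x ^ 3 + 1)) *
      ((-1 - 1) * (x ^ 2 + 1))) = 4 * ((x ^ 3 - x - 1) * ((x - 1) * (-1 + x ^ 3 + 1)) * (x ^ 2 + 1) *
        ((x ^ 2 - 1) * (-x ^ 2 - 1))) := by ring
    _ = 12 := by rw [e1, e2]; norm_num

end ring

theorem lt_of_ratio {v X N a b : ℕ} (hv1 : 1 < v) (hv : a * v ≤ b * (v - 1)) (h : b * X < a * N) :
    v * X < N * (v - 1) := by
  obtain ⟨w, rfl⟩ : ∃ w, v = w + 1 := ⟨v - 1, by omega⟩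
  rw [Nat.add_sub_cancel] at hv ⊢
  have hw : 0 < w := by omega
  have h1 : a * ((w + 1) * X) < a * (N * w) := by
    calc a * ((w + 1) * X) = a * (w + 1) * X := by ring
      _ ≤ b * w * X := Nat.mul_le_mul_right _ hv
      _ = w * (b * X) := by ring
      _ < w * (a * N) := Nat.mul_lt_mul_of_pos_left h hw
      _ = a * (N * w) := by ring
  exact Nat.lt_of_mul_lt_mul_left h1

/-- `v ≥ a + 1` -/
theorem ratio_of_le {v a : ℕ} (hv : a + 1 ≤ v) : a * v ≤ (a + 1) * (v - 1) := by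
  obtain ⟨w, rfl⟩ : ∃ w, v = w + 1 := ⟨v - 1, by omega⟩
  rw [Nat.add_sub_cancel]
  have hw : a ≤ w := by omega
  calc a * (w + 1) = a * w + a := by ring
    _ ≤ a * w + w := by omega
    _ = (a + 1) * w := by ring

theorem num_one {v N a e f : ℕ} (ha : 0 < a) (hv : a + 1 ≤ v) (h : (a + 1) * (4 * (f * e)) < a * N) :
    v * (2 * (2 * 1 * f * e)) < N * (v - 1) := by
  refine lt_of_ratio (by omega) (ratio_of_le hv) ?_
  calc (a + 1) * (2 * (2 * 1 * f * e)) = (a + 1) * (4 * (f * e)) := by ring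
    _ < a * N := h

theorem num_three {v N a e f : ℕ} (ha : 0 < a) (hv : a + 1 ≤ v) (h : (a + 1) * (72 * (f * e)) < a * N) :
    3 * (v * (2 * (2 * 3 * f * (2 * e)))) < N * (v - 1) := by
  have h1 : 3 * (v * (2 * (2 * 3 * f * (2 * e)))) = v * (72 * (f * e)) := by ring
  rw [h1]
  exact lt_of_ratio (by omega) (ratio_of_le hv) h

/-- the numbers for a torus of order `N` -/
def NumOK (q v N e : ℕ) (g : ℕ) : Prop :=
  ∀ f : ℕ, f < q → (g = 1 → v * (2 * (2 * g * f * e)) < N * (v - 1)) ∧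
    (g = 3 → 3 * (v * (2 * (2 * g * f * (2 * e)))) < N * (v - 1))

theorem NumOK.mk {q v N e g a : ℕ} (ha : 0 < a) (hv : a + 1 ≤ v)
    (h1 : g = 1 → ∀ f < q, (a + 1) * (4 * (f * e)) < a * N)
    (h3 : g = 3 → ∀ f < q, (a + 1) * (72 * (f * e)) < a * N) : NumOK q v N e g := by
  intro f hf
  constructor
  · rintro rfl
    exact num_one ha hv (h1 rfl f hf)
  · rintro rfl
    exact num_three ha hv (h3 rfl f hf)

theorem num8 {q v g : ℕ} (hq : 2 ≤ q) (hv : 17 ≤ v) (h : g = 3 → 4 ≤ q) :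
    NumOK q v ((q ^ 4 + 1) * (q ^ 2 - 1)) 8 g := by
  refine NumOK.mk (a := 16) (by norm_num) hv (fun _ f hf => ?_) fun h3 f hf => ?_
  · rcases Nat.lt_or_ge q 3 with h2 | h2
    · have h4 : q = 2 := by omega
      subst h4
      norm_num
      omega
    · have e1 : 27 * q ≤ q ^ 4 := by
        calc 27 * q = 3 ^ 3 * q := by norm_num
          _ ≤ q ^ 3 * q := Nat.mul_le_mul_right _ (Nat.pow_le_pow_left h2 3)
          _ = q ^ 4 := by ring
      have e2 : 8 ≤ q ^ 2 - 1 := by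
        have : 3 ^ 2 ≤ q ^ 2 := Nat.pow_le_pow_left h2 2
        omega
      have e3 : (27 * q + 1) * 8 ≤ (q ^ 4 + 1) * (q ^ 2 - 1) := Nat.mul_le_mul (by omega) e2
      omega
  · have h2 := h h3
    have e1 : 64 * q ≤ q ^ 4 := by
      calc 64 * q = 4 ^ 3 * q := by norm_num
        _ ≤ q ^ 3 * q := Nat.mul_le_mul_right _ (Nat.pow_le_pow_left h2 3)
        _ = q ^ 4 := by ring
    have e2 : 15 ≤ q ^ 2 - 1 := by
      have : 4 ^ 2 ≤ q ^ 2 := Nat.pow_le_pow_left h2 2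
      omega
    have e3 : (64 * q + 1) * 15 ≤ (q ^ 4 + 1) * (q ^ 2 - 1) := Nat.mul_le_mul (by omega) e2
    omega

theorem num12 {q v g : ℕ} (hq : 2 ≤ q) (hv : 13 ≤ v) (h : g = 3 → 4 ≤ q) :
    NumOK q v ((q ^ 4 - q ^ 2 + 1) * (q ^ 2 + q + 1)) 12 g := by
  refine NumOK.mk (a := 12) (by norm_num) hv (fun _ f hf => ?_) fun h3 f hf => ?_
  · rcases Nat.lt_or_ge q 3 with h2 | h2
    · have h4 : q = 2 := by omega
      subst h4
      norm_num
      omega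
    · have e0 : 3 * q ≤ q ^ 2 := by nlinarith
      have e1 : 9 * q ^ 2 ≤ q ^ 4 := by
        calc 9 * q ^ 2 = 3 ^ 2 * q ^ 2 := by norm_num
          _ ≤ q ^ 2 * q ^ 2 := Nat.mul_le_mul_right _ (Nat.pow_le_pow_left h2 2)
          _ = q ^ 4 := by ring
      have e3 : (24 * q) * 13 ≤ (q ^ 4 - q ^ 2 + 1) * (q ^ 2 + q + 1) := Nat.mul_le_mul (by omega) (by omega)
      omega
  · have h2 := h h3
    have e0 : 4 * q ≤ q ^ 2 := by nlinarith
    have e1 : 16 * q ^ 2 ≤ q ^ 4 := by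
      calc 16 * q ^ 2 = 4 ^ 2 * q ^ 2 := by norm_num
        _ ≤ q ^ 2 * q ^ 2 := Nat.mul_le_mul_right _ (Nat.pow_le_pow_left h2 2)
        _ = q ^ 4 := by ring
    have e3 : (60 * q) * 21 ≤ (q ^ 4 - q ^ 2 + 1) * (q ^ 2 + q + 1) := Nat.mul_le_mul (by omega) (by omega)
    omega

theorem num9 {q v g : ℕ} (hq : 2 ≤ q) (hv : 19 ≤ v) (h : g = 3 → 4 ≤ q) :
    NumOK q v (q ^ 6 + q ^ 3 + 1) 9 g := by
  refine NumOK.mk (a := 18) (by norm_num) hv (fun _ f hf => ?_) fun h3 f hf => ?_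
  · rcases Nat.lt_or_ge q 3 with h2 | h2
    · have h4 : q = 2 := by omega
      subst h4
      norm_num
      omega
    · have e1 : 243 * q ≤ q ^ 6 := by
        calc 243 * q = 3 ^ 5 * q := by norm_num
          _ ≤ q ^ 5 * q := Nat.mul_le_mul_right _ (Nat.pow_le_pow_left h2 5)
          _ = q ^ 6 := by ring
      omega
  · have h2 := h h3
    have e1 : 1024 * q ≤ q ^ 6 := by
      calc 1024 * q = 4 ^ 5 * q := by norm_num
        _ ≤ q ^ 5 * q := Nat.mul_le_mul_right _ (Nat.pow_le_pow_left h2 5)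
        _ = q ^ 6 := by ring
    omega

theorem num12t {q v g : ℕ} (hq : 3 ≤ q) (hv : 13 ≤ v) (h : g = 3 → 5 ≤ q) :
    NumOK q v ((q ^ 4 - q ^ 2 + 1) * (q ^ 2 - q + 1)) 12 g := by
  refine NumOK.mk (a := 12) (by norm_num) hv (fun _ f hf => ?_) fun h3 f hf => ?_
  · have e0 : 3 * q ≤ q ^ 2 := by nlinarith
    have e1 : 9 * q ^ 2 ≤ q ^ 4 := by
      calc 9 * q ^ 2 = 3 ^ 2 * q ^ 2 := by norm_num
        _ ≤ q ^ 2 * q ^ 2 := Nat.mul_le_mul_right _ (Nat.pow_le_pow_left hq 2)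
        _ = q ^ 4 := by ring
    have e3 : (24 * q) * 7 ≤ (q ^ 4 - q ^ 2 + 1) * (q ^ 2 - q + 1) := Nat.mul_le_mul (by omega) (by omega)
    omega
  · have h2 := h h3
    have e0 : 5 * q ≤ q ^ 2 := by nlinarith
    have e1 : 25 * q ^ 2 ≤ q ^ 4 := by
      calc 25 * q ^ 2 = 5 ^ 2 * q ^ 2 := by norm_num
        _ ≤ q ^ 2 * q ^ 2 := Nat.mul_le_mul_right _ (Nat.pow_le_pow_left h2 2)
        _ = q ^ 4 := by ring
    have e3 : (120 * q) * 21 ≤ (q ^ 4 - q ^ 2 + 1) * (q ^ 2 - q + 1) := Nat.mul_le_mul (by omega) (by omega)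
    omega

theorem num18 {q v g : ℕ} (hq : 3 ≤ q) (hv : 19 ≤ v) (h : g = 3 → 5 ≤ q) :
    NumOK q v (q ^ 6 - q ^ 3 + 1) 9 g := by
  refine NumOK.mk (a := 18) (by norm_num) hv (fun _ f hf => ?_) fun h3 f hf => ?_
  · have e0 : 9 * q ≤ q ^ 3 := by
      calc 9 * q = 3 ^ 2 * q := by norm_num
        _ ≤ q ^ 2 * q := Nat.mul_le_mul_right _ (Nat.pow_le_pow_left hq 2)
        _ = q ^ 3 := by ring
    have e1 : 27 * q ^ 3 ≤ q ^ 6 := by
      calc 27 * q ^ 3 = 3 ^ 3 * q ^ 3 := by norm_num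
        _ ≤ q ^ 3 * q ^ 3 := Nat.mul_le_mul_right _ (Nat.pow_le_pow_left hq 3)
        _ = q ^ 6 := by ring
    omega
  · have h2 := h h3
    have e0 : 25 * q ≤ q ^ 3 := by
      calc 25 * q = 5 ^ 2 * q := by norm_num
        _ ≤ q ^ 2 * q := Nat.mul_le_mul_right _ (Nat.pow_le_pow_left h2 2)
        _ = q ^ 3 := by ring
    have e1 : 125 * q ^ 3 ≤ q ^ 6 := by
      calc 125 * q ^ 3 = 5 ^ 3 * q ^ 3 := by norm_num
        _ ≤ q ^ 3 * q ^ 3 := Nat.mul_le_mul_right _ (Nat.pow_le_pow_left h2 3)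
        _ = q ^ 6 := by ring
    omega

end Cfsg.Agent.H142.Der
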