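import Cfsg.Agent.H81.DerRoot
import Cfsg.Agent.H378.RankOne
import Cfsg.Agent.H632.Der.Count

/-!
# S3502 for `E₆(q)`, `²E₆(q)`: the classes from `CentRoot` (helper142)

* `adj_char`, `adj_two`, `adj_three` : neighbours of `p` in the prime graph
* `not_SCC_of_centRoot`, `not_SCC_char`
-/

set_option autoImplicit false
set_option linter.unusedSectionVars false

namespace Cfsg.Agent.H142.Der

open CoxeterSystem Cfsg Cfsg.Lie Cfsg.Lie.ChevalleyDatum
open Cfsg.Agent.ChevalleyStructure Cfsg.Agent.ChevalleyStructure.Elts Cfsg.Agent.ChevalleyStructure.CoxeterGeom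
  Cfsg.Agent.ChevalleyStructure.CoxeterGeomTypes Cfsg.Agent.ChevalleyStructure.NPerm
open Cfsg.Agent.Tits.Roots Cfsg.Agent.Tits.Core Cfsg.Agent.Nodes Cfsg.Agent.Nodes.Reps Cfsg.Agent.Nodes.BNOf
  Cfsg.Agent.Nodes.RGDChev
open Cfsg.Agent.KFacts.RgdChevCoord
open Cfsg.Agent.ChevalleyStructure.SL2Hom (up lo)
open Cfsg.Agent.Nodes.RGDFold Cfsg.Agent.Nodes.RGDFoldSL
open Cfsg.Agent.H469.Exc Cfsg.Agent.H469.Exc.SigFr Cfsg.Agent.H316.U6
open Cfsg.Agent.BpExc.LangFr Cfsg.Agent.H81.TorOrth Cfsg.Agent.H439.Der Cfsg.Agent.H81.Der Cfsg.Agent.H632.Der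
open Cfsg.Agent.ChevalleyStructure.HMatDiagAll (expo)

universe u v

variable {D : ChevalleyDatum} {l : ℕ} {M : CoxeterMatrix (Fin l)} {hp : IsType D l M} {r q : ℕ}
  [hr : Fact r.Prime] {K₀ : Type v} [Group K₀] (m : MData hp r q K₀)

/-- root elements of the highest root and of its negative -/
theorem exists_pair : ∃ (b : KK r) (a a' : K₀), b ≠ 0 ∧ m.ι a = xs hp.inList (D.nroots - 1) b ∧
    m.ι a' = xs hp.inList (D.neg (D.nroots - 1)) (-b⁻¹) ∧ m.ι a ∈ XX D l (KK r) (vec D l (D.nroots - 1)) ∧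
    m.ι a' ∈ XX D l (KK r) (-vec D l (D.nroots - 1)) := by
  have hD := nroots_pos' hp.inList
  have hs : D.nroots - 1 < D.nroots := by omega
  obtain ⟨b, hb, ⟨a, ha⟩, ⟨a', ha'⟩⟩ := exists_b m hs m.top
  refine ⟨b, a, a', hb, ha, ha', ?_, ?_⟩
  · rw [ha]
    exact (Cfsg.Agent.LangThm.mem_XX_vec hp hs).2 ⟨b, rfl⟩
  · rw [ha', ← vec_neg hp hs]
    exact (Cfsg.Agent.LangThm.mem_XX_vec hp (neg_lt hp.inList hs)).2 ⟨_, rfl⟩

/-- the elements of order `2`, `r` odd -/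
theorem order_two (hr2 : r ≠ 2) {t : ℕ} (ht : t < D.nroots) (hodd : Odd (expo D (D.nroots - 1) t)) {b : KK r}
    {a a' : K₀} (hb : b ≠ 0) (ha : m.ι a = xs hp.inList (D.nroots - 1) b)
    (ha' : m.ι a' = xs hp.inList (D.neg (D.nroots - 1)) (-b⁻¹)) : orderOf ((a * a' * a) * (a * a' * a)) = 2 := by
  have hD := nroots_pos' hp.inList
  have hs : D.nroots - 1 < D.nroots := by omega
  have hx : m.ι ((a * a' * a) * (a * a' * a)) = ps hp hs (hS (-1 : KK r)) := by
    rw [← sq_eq hb]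
    simp only [map_mul, ha, ha', ps_up, ps_lo]
  have h1 : (-1 : KK r) ≠ 1 := by
    intro h
    have h2 : (2 : KK r) = 0 := by
      calc (2 : KK r) = 1 + 1 := by norm_num
        _ = 1 + -1 := by rw [h]
        _ = 0 := by ring
    have h3 : ((2 : ℕ) : KK r) = 0 := by exact_mod_cast h2
    rw [CharP.cast_eq_zero_iff (KK r) r] at h3
    exact hr2 ((Nat.prime_dvd_prime_iff_eq hr.out Nat.prime_two).1 h3)
  have : Fact (Nat.Prime 2) := ⟨Nat.prime_two⟩
  refine orderOf_eq_prime (m.inj ?_) ?_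
  · rw [map_pow, hx, map_one]
    apply Subtype.ext
    rw [Subgroup.coe_pow, coe_ps_hS]
    exact Cfsg.Agent.KFacts.Mult.Chev.hG_pow hp.inList hs (neg_ne_zero.2 one_ne_zero) (by norm_num)
  · intro h0
    rw [h0, map_one] at hx
    have h4 := congrArg (fun y : ↥(D.group (KK r)) => ((y : GL D.Idx (KK r)) : Matrix D.Idx D.Idx (KK r))
      (Sum.inr ⟨t, ht⟩) (Sum.inr ⟨t, ht⟩)) hx
    have h5 := entry hp hs (neg_ne_zero.2 (one_ne_zero (α := KK r))) 1
    rw [pow_one] at h5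
    simp only [h5, Matrix.diagonal_apply_eq, Sum.elim_inr, pow_one] at h4
    rw [show (((1 : ↥(D.group (KK r))) : GL D.Idx (KK r)) : Matrix D.Idx D.Idx (KK r)) = 1 from rfl,
      Matrix.one_apply_eq, hodd.neg_one_zpow] at h4
    exact h1 h4.symm

/-- `(up b · lo (-b⁻¹))³ = -1` -/
theorem cube_eq {k : Type*} [Field k] {b : k} (hb : b ≠ 0) :
    (up b * lo (-b⁻¹)) * (up b * lo (-b⁻¹)) * (up b * lo (-b⁻¹)) = hS (-1 : k) := by
  apply Subtype.ext
  rw [coe_hS (neg_ne_zero.2 one_ne_zero)]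
  simp only [Matrix.SpecialLinearGroup.coe_mul]
  show (!![1, b; 0, 1] : Matrix (Fin 2) (Fin 2) k) * !![1, 0; -b⁻¹, 1] * (!![1, b; 0, 1] * !![1, 0; -b⁻¹, 1]) *
    (!![1, b; 0, 1] * !![1, 0; -b⁻¹, 1]) = _
  ext i j
  fin_cases i <;> fin_cases j <;> simp [Matrix.mul_apply, Fin.sum_univ_two, hb, inv_neg]

variable [Finite K₀]

/-- the elements of order `3`, `r = 2` -/
theorem order_three (hr2 : r = 2) {b : KK r} {a a' : K₀} (hb : b ≠ 0)
    (ha : m.ι a = xs hp.inList (D.nroots - 1) b)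
    (ha' : m.ι a' = xs hp.inList (D.neg (D.nroots - 1)) (-b⁻¹))
    (h1 : m.ι a ∈ XX D l (KK r) (vec D l (D.nroots - 1)))
    (h2 : m.ι a' ∈ XX D l (KK r) (-vec D l (D.nroots - 1))) : orderOf (a * a') = 3 := by
  have hD := nroots_pos' hp.inList
  have hs : D.nroots - 1 < D.nroots := by omega
  have : Fact (Nat.Prime 3) := ⟨Nat.prime_three⟩
  refine orderOf_eq_prime (m.inj ?_) ?_
  · have hx : m.ι ((a * a') * (a * a') * (a * a')) = ps hp hs (hS (-1 : KK r)) := by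
      rw [← cube_eq hb]
      simp only [map_mul, ha, ha', ps_up, ps_lo]
    have e : (a * a') ^ 3 = (a * a') * (a * a') * (a * a') := by rw [pow_succ, pow_two]
    have h3 : (-1 : KK r) = 1 := by
      have h4 : ((2 : ℕ) : KK r) = 0 := by
        rw [CharP.cast_eq_zero_iff (KK r) r, hr2]
      push_cast at h4
      calc (-1 : KK r) = 1 - 2 := by ring
        _ = 1 := by rw [h4, sub_zero]
    have h4 : hS (1 : KK r) = 1 := by
      apply Subtype.ext
      rw [coe_hS one_ne_zero]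
      ext i j
      fin_cases i <;> fin_cases j <;> simp
    rw [e, hx, h3, h4, map_one, map_one]
  · intro h0
    have hu1 : m.ι a ≠ 1 := by
      intro h
      rw [ha] at h
      exact hb ((xG_eq_one_iff hp.inList hs b).1 (congrArg Subtype.val h))
    obtain ⟨v, -, hS⟩ := H378.RankOne.exists_swap hp M.toCoxeterSystem (locFin r) r
      (isRoot_vec hp M.toCoxeterSystem hs) h1 hu1
    apply hu1
    refine hS.nor _ ?_ fun y hy => mul_mem (mul_mem h1 hy) (inv_mem h1)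
    have h3 : a = a'⁻¹ := eq_inv_of_mul_eq_one_left h0
    rw [h3, map_inv]
    exact inv_mem h2

variable {m} {p : ℕ}

/-- `p` is joined to the characteristic -/
theorem adj_char (hpp : p.Prime) (hpr : p ≠ r) (h : CentRoot m p) : H94.PG.Adj K₀ p r := by
  obtain ⟨x, hx, hc⟩ := h
  obtain ⟨u, hu, hu'⟩ := exists_root_elt m
  refine ⟨hpp, hr.out, hpr, x, u, hx, hu, m.inj ?_⟩
  rw [map_mul, map_mul]
  exact (hc (m.ι u) (m.fix u) (Or.inl hu')).symm

/-- the element of order `p` commutes with the root elements -/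
theorem comm_pair {x a a' : K₀} (hc : ∀ u, m.σ u = u →
    (u ∈ XX D l (KK r) (vec D l (D.nroots - 1)) ∨ u ∈ XX D l (KK r) (-vec D l (D.nroots - 1))) →
      u * m.ι x = m.ι x * u) (h1 : m.ι a ∈ XX D l (KK r) (vec D l (D.nroots - 1)))
    (h2 : m.ι a' ∈ XX D l (KK r) (-vec D l (D.nroots - 1))) : Commute x a ∧ Commute x a' := by
  refine ⟨m.inj ?_, m.inj ?_⟩
  · rw [map_mul, map_mul]
    exact (hc (m.ι a) (m.fix a) (Or.inl h1)).symm
  · rw [map_mul, map_mul]
    exact (hc (m.ι a') (m.fix a') (Or.inr h2)).symm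

/-- `p` is joined to `2`, `r` odd -/
theorem adj_two (hpp : p.Prime) (hp2 : p ≠ 2) (hr2 : r ≠ 2) {t : ℕ} (ht : t < D.nroots)
    (hodd : Odd (expo D (D.nroots - 1) t)) (h : CentRoot m p) : H94.PG.Adj K₀ p 2 := by
  obtain ⟨x, hx, hc⟩ := h
  obtain ⟨b, a, a', hb, ha, ha', h1, h2⟩ := exists_pair m
  obtain ⟨c1, c2⟩ := comm_pair hc h1 h2
  have c3 : Commute x (a * a' * a) := (c1.mul_right c2).mul_right c1
  exact ⟨hpp, Nat.prime_two, hp2, x, _, hx, order_two m hr2 ht hodd hb ha ha', c3.mul_right c3⟩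

/-- `p` is joined to `3`, `r = 2` -/
theorem adj_three (hpp : p.Prime) (hp3 : p ≠ 3) (hr2 : r = 2) (h : CentRoot m p) : H94.PG.Adj K₀ p 3 := by
  obtain ⟨x, hx, hc⟩ := h
  obtain ⟨b, a, a', hb, ha, ha', h1, h2⟩ := exists_pair m
  obtain ⟨c1, c2⟩ := comm_pair hc h1 h2
  exact ⟨hpp, Nat.prime_three, hp3, x, _, hx, order_three m hr2 hb ha ha' h1 h2, c1.mul_right c2⟩

/-- **`p ≠ r` with `CentRoot m p`.** -/
theorem not_SCC_of_centRoot (hpp : p.Prime) (hpr : p ≠ r) (h : CentRoot m p) {t : ℕ} (ht : t < D.nroots)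
    (hodd : Odd (expo D (D.nroots - 1) t)) {s : ℕ} (hs : s.Prime) (hs5 : 5 ≤ s) (hsr : s ≠ r)
    (hc : CentRoot m s) : ¬ SCC K₀ p := by
  by_cases hr2 : r = 2
  · by_cases hp3 : p = 3
    · subst hp3
      exact not_SCC_of_two_adj (adj_char hpp hpr h) (adj_three hs (by omega) hr2 hc).symm (by omega)
    · exact not_SCC_of_two_adj (adj_char hpp hpr h) (adj_three hpp hp3 hr2 h) (by omega)
  · by_cases hp2 : p = 2
    · subst hp2
      exact not_SCC_of_two_adj (adj_char hpp hpr h) (adj_two hs (by omega) hr2 ht hodd hc).symm (by omega)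
    · exact not_SCC_of_two_adj (adj_char hpp hpr h) (adj_two hpp hp2 hr2 ht hodd h) hr2

/-- **The characteristic.** -/
theorem not_SCC_char {s s' : ℕ} (hs : s.Prime) (hsr : s ≠ r) (hc : CentRoot m s) (hs' : s'.Prime) (hsr' : s' ≠ r)
    (hc' : CentRoot m s') (hne : s ≠ s') : ¬ SCC K₀ r :=
  not_SCC_of_two_adj (adj_char hs hsr hc).symm (adj_char hs' hsr' hc').symm hne

end Cfsg.Agent.H142.Der
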