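import Cfsg.Agent.H632.Der.Count

/-!
# S3502 for `E₆(q)`, `²E₆(q)`: counting tools (helper142)

* `comm_of_norm` : an element of order `v` normalizing `⟨x⟩`, `x` of order `v`
* `card_conjPow_modEq` : `|G| = |C(x)| R` implies `|conjPow x| ≡ R (mod v)`
* `conjPow_dvd` : `|conjPow x|` divides `v - 1`
* `not_SCC_of_torus` : a cyclic torus of order dividing `N`, `N ∣ g |A|`, `g |G| = N R`
-/

set_option autoImplicit false

namespace Cfsg.Agent.H142.Der

open Subgroup Cfsg.Agent.H439.Der

universe u

variable {T : Type u} [Group T] [Finite T]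

omit [Finite T] in
/-- an element of order `v` normalizing `⟨x⟩`, `x` of order `v` -/
theorem comm_of_norm {v : ℕ} (hv : v.Prime) {x y : T} (hx : orderOf x = v) (hy : y ^ v = 1)
    (h : y * x * y⁻¹ ∈ zpowers x) : y * x = x * y := by
  have : Fact v.Prime := ⟨hv⟩
  obtain ⟨k, hk⟩ := mem_zpowers_iff.1 h
  have key : ∀ n : ℕ, y ^ n * x * (y ^ n)⁻¹ = x ^ (k ^ n) := by
    intro n
    induction n with
    | zero => simp
    | succ n ih =>
      calc y ^ (n + 1) * x * (y ^ (n + 1))⁻¹ = y * (y ^ n * x * (y ^ n)⁻¹) * y⁻¹ := by rw [pow_succ']; group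
        _ = (y * x * y⁻¹) ^ (k ^ n) := by rw [ih, conj_zpow]
        _ = x ^ (k ^ (n + 1)) := by rw [← hk, ← zpow_mul, pow_succ']
  have h1 : x ^ (k ^ v) = x := by
    rw [← key v, hy]
    group
  have h2 : (k : ZMod v) = 1 := by
    have h3 : x ^ (k ^ v - 1) = 1 := by rw [zpow_sub, h1, zpow_one, mul_inv_cancel]
    rw [← orderOf_dvd_iff_zpow_eq_one, hx] at h3
    have h4 := (ZMod.intCast_zmod_eq_zero_iff_dvd _ _).2 h3
    push_cast at h4
    rw [ZMod.pow_card] at h4
    exact sub_eq_zero.1 h4
  have h4 : ((k - 1 : ℤ) : ZMod v) = 0 := by push_cast; rw [h2, sub_self]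
  have h5 : (v : ℤ) ∣ k - 1 := (ZMod.intCast_zmod_eq_zero_iff_dvd _ _).1 h4
  rw [← hx, orderOf_dvd_iff_zpow_eq_one, zpow_sub, zpow_one, hk, mul_inv_eq_one] at h5
  calc y * x = y * x * y⁻¹ * y := by group
    _ = x * y := by rw [h5]

/-- **`|G| = |C(x)| R`: `|conjPow x| ≡ R (mod v)`.** -/
theorem card_conjPow_modEq {v R : ℕ} (hv : v.Prime) {x : T} (hx : orderOf x = v)
    (huniq : ∀ y, orderOf y = v → y * x = x * y → y ∈ zpowers x)
    (hR : Nat.card T = Nat.card (centralizer ({x} : Set T)) * R) : Nat.card (conjPow x) ≡ R [MOD v] := by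
  have : Fact v.Prime := ⟨hv⟩
  obtain ⟨H, hH⟩ : ∃ H, H = normalizer (zpowers x : Set T) := ⟨_, rfl⟩
  have hyp : IsPGroup v (zpowers x) := IsPGroup.of_card (n := 1) (by rw [Nat.card_zpowers, hx, pow_one])
  have h1 := hyp.card_modEq_card_fixedPoints (T ⧸ H)
  have hfix : Nat.card (MulAction.fixedPoints (zpowers x) (T ⧸ H)) = 1 := by
    rw [Nat.card_eq_one_iff_unique]
    have key : ∀ a : T, (QuotientGroup.mk a : T ⧸ H) ∈ MulAction.fixedPoints (zpowers x) (T ⧸ H) ↔ a ∈ H := by
      intro a
      constructor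
      · intro h
        have h2 := h ⟨x, mem_zpowers x⟩
        have h3 : (QuotientGroup.mk (x * a) : T ⧸ H) = QuotientGroup.mk a := h2
        rw [eq_comm, QuotientGroup.eq] at h3
        have h4 : a⁻¹ * x * a ∈ H := by rwa [mul_assoc]
        obtain ⟨y, hy⟩ : ∃ y, y = a⁻¹ * x * a := ⟨_, rfl⟩
        have hyo : orderOf y = v := by
          rw [hy]
          have := orderOf_conj a⁻¹ x
          rw [inv_inv] at this
          rw [this, hx]
        rw [← hy, hH, Subgroup.mem_normalizer_iff] at h4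
        have h5 : y * x * y⁻¹ ∈ zpowers x := (h4 x).1 (mem_zpowers x)
        have h6 := comm_of_norm hv hx (by rw [← hyo]; exact pow_orderOf_eq_one _) h5
        have h7 := huniq y hyo h6
        -- `⟨y⟩ = ⟨x⟩`
        have h8 : zpowers y = zpowers x := by
          refine Subgroup.eq_of_le_of_card_ge (zpowers_le.2 h7) ?_
          rw [Nat.card_zpowers, Nat.card_zpowers, hx, hyo]
        rw [hH]
        apply mem_normalizer_of
        have h9 : x ∈ zpowers y := by rw [h8]; exact mem_zpowers x
        obtain ⟨j, hj⟩ := mem_zpowers_iff.1 h9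
        refine mem_zpowers_iff.2 ⟨j, ?_⟩
        have h10 : a * y * a⁻¹ = x := by rw [hy]; group
        calc x ^ j = (a * y * a⁻¹) ^ j := by rw [h10]
          _ = a * y ^ j * a⁻¹ := conj_zpow
          _ = a * x * a⁻¹ := by rw [hj]
      · intro h
        rintro ⟨z, hz⟩
        show (QuotientGroup.mk (z * a) : T ⧸ H) = QuotientGroup.mk a
        rw [eq_comm, QuotientGroup.eq, ← mul_assoc]
        have hzH : z ∈ H := by
          rw [hH]
          exact (Subgroup.le_normalizer (H := zpowers x)) hz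
        exact mul_mem (mul_mem (inv_mem h) hzH) h
    refine ⟨⟨?_⟩, ⟨⟨QuotientGroup.mk 1, (key 1).2 (one_mem _)⟩⟩⟩
    have key2 : ∀ a : MulAction.fixedPoints (zpowers x) (T ⧸ H), (a : T ⧸ H) = QuotientGroup.mk 1 := by
      rintro ⟨a, ha⟩
      induction a using QuotientGroup.induction_on with
      | H a =>
        show (QuotientGroup.mk a : T ⧸ H) = QuotientGroup.mk 1
        rw [eq_comm, QuotientGroup.eq, inv_one, one_mul]
        exact (key a).1 ha
    intro a b
    exact Subtype.ext ((key2 a).trans (key2 b).symm)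
  rw [hfix] at h1
  have h2 : Nat.card (T ⧸ H) = H.index := (Subgroup.index_eq_card H).symm
  rw [h2] at h1
  have h3 := H.card_mul_index
  have h4 := card_conjPow_mul x
  rw [← hH] at h4
  rw [← h4, hR] at h3
  have h5 : Nat.card (conjPow x) * H.index = R := by
    have h6 : 0 < Nat.card (centralizer ({x} : Set T)) := Nat.card_pos
    apply Nat.eq_of_mul_eq_mul_left h6
    rw [← h3]
    ring
  have h6 : Nat.card (conjPow x) * H.index ≡ Nat.card (conjPow x) * 1 [MOD v] := h1.mul_left _
  rw [h5, mul_one] at h6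
  exact h6.symm

/-- `|conjPow x|` divides `v - 1` -/
theorem conjPow_dvd {v : ℕ} (hv : v.Prime) {x : T} (hx : orderOf x = v) : Nat.card (conjPow x) ∣ v - 1 := by
  have h1 := card_dvd_of_injective _ (QuotientGroup.kerLift_injective (zpowers x).normalizerMonoidHom)
  rw [normalizerMonoidHom_ker, IsCyclic.card_mulAut, Nat.card_zpowers, hx, Nat.totient_prime hv] at h1
  refine dvd_trans (dvd_of_eq ?_) h1
  have h2 := card_conjPow_mul x
  have h3 : Nat.card (centralizer ({x} : Set T)) =
      Nat.card ((centralizer (zpowers x : Set T)).subgroupOf (normalizer (zpowers x : Set T))) := by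
    have h4 : centralizer ({x} : Set T) = centralizer (zpowers x : Set T) := by
      rw [← Subgroup.centralizer_closure, Subgroup.zpowers_eq_closure]
    rw [h4]
    exact (Nat.card_congr (Subgroup.subgroupOfEquivOfLe (centralizer_le_normalizer _)).toEquiv).symm
  rw [h3, Subgroup.card_eq_card_quotient_mul_card_subgroup
    ((centralizer (zpowers x : Set T)).subgroupOf (normalizer (zpowers x : Set T)))] at h2
  exact Nat.eq_of_mul_eq_mul_right Nat.card_pos h2

end Cfsg.Agent.H142.Der
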