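import Cfsg.Agent.H632.Der.Count
import Cfsg.Agent.H142.Der.Tool

/-!
# S3502 for `E₆(q)`, `²E₆(q)`: cyclic tori (helper142)

* `not_SCC_of_torus` : `A` cyclic, `|A| ∣ N ∣ g |A|`, `g |G| = N R`, `R ≡ e (mod v)`
-/

set_option autoImplicit false

namespace Cfsg.Agent.H142.Der

open Subgroup Cfsg.Agent.H439.Der Cfsg.Agent.H632.Der

universe u

variable {T : Type u} [Group T] [Finite T]

/-- in a cyclic subgroup -/
theorem mem_zpowers_of_cyclic {v : ℕ} (hv : v.Prime) {A : Subgroup T} (hcyc : IsCyclic A) {x : T} (hxA : x ∈ A)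
    (hxo : orderOf x = v) {y : T} (hy : y ∈ A) (hyo : orderOf y = v) : y ∈ zpowers x := by
  classical
  have := Fintype.ofFinite T
  have h1 : (Finset.univ.filter fun b : A => b ^ v = 1).card ≤ v := IsCyclic.card_pow_eq_one_le hv.pos
  have h2 : (Finset.univ.filter fun b : A => b ∈ zpowers (⟨x, hxA⟩ : A)) =
      (Finset.univ.filter fun b : A => b ^ v = 1) := by
    refine Finset.eq_of_subset_of_card_le ?_ ?_
    · intro b hb
      rw [Finset.mem_filter] at hb ⊢
      refine ⟨Finset.mem_univ _, ?_⟩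
      obtain ⟨i, rfl⟩ := mem_zpowers_iff.1 hb.2
      have h3 : (⟨x, hxA⟩ : A) ^ v = 1 := by
        apply Subtype.ext
        rw [Subgroup.coe_pow, ← hxo]
        exact pow_orderOf_eq_one _
      rw [← zpow_natCast, ← zpow_mul, mul_comm, zpow_mul, zpow_natCast, h3, one_zpow]
    · refine h1.trans (le_of_eq ?_)
      rw [← Fintype.card_subtype, ← Nat.card_eq_fintype_card]
      have h4 := Nat.card_zpowers (⟨x, hxA⟩ : A)
      rw [Subgroup.orderOf_mk, hxo] at h4
      exact h4.symm
  have h3 : (⟨y, hy⟩ : A) ∈ (Finset.univ.filter fun b : A => b ^ v = 1) := by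
    rw [Finset.mem_filter]
    refine ⟨Finset.mem_univ _, Subtype.ext ?_⟩
    rw [Subgroup.coe_pow, ← hyo]
    exact pow_orderOf_eq_one _
  rw [← h2, Finset.mem_filter] at h3
  obtain ⟨i, hi⟩ := mem_zpowers_iff.1 h3.2
  exact mem_zpowers_iff.2 ⟨i, by simpa using congrArg Subtype.val hi⟩

/-- **A cyclic torus of order `N` or `N / g`.** -/
theorem not_SCC_of_torus {A : Subgroup T} (hcyc : IsCyclic A) {v g N R e o : ℕ} (hv : v.Prime) (hg : g = 1 ∨ g = 3)
    (h5 : 5 ≤ v) (h2 : Nat.card A ∣ N) (h3 : N ∣ g * Nat.card A) (hvN : v ∣ N)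
    (hC : ∀ y ∈ A, orderOf y = v → centralizer ({y} : Set T) ≤ A)
    (hG : g * Nat.card T = N * R) (hR : R ≡ e [MOD v]) (he : e < v) (hO : Nat.card (Cfsg.Out T) ≤ o)
    (hlt1 : g = 1 → v * (2 * (o * e)) < N * (v - 1))
    (hlt3 : g = 3 → 3 * (v * (2 * (o * (2 * e)))) < N * (v - 1)) : ¬ SCC T v := by
  have hg0 : 0 < g := by rcases hg with rfl | rfl <;> norm_num
  have hA0 : 0 < Nat.card A := Nat.card_pos
  obtain ⟨d, hd⟩ := h2
  have hdg : d ∣ g := by
    rw [hd, mul_comm g] at h3
    exact Nat.dvd_of_mul_dvd_mul_left hA0 h3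
  have hvA : v ∣ Nat.card A := by
    rw [hd] at hvN
    refine (hv.dvd_mul.1 hvN).resolve_right fun h => ?_
    have h6 := Nat.le_of_dvd hg0 (h.trans hdg)
    omega
  have hcomm : ∀ a ∈ A, ∀ b ∈ A, a * b = b * a := by
    intro a ha b hb
    have := (IsCyclic.commGroup (α := A)).mul_comm ⟨a, ha⟩ ⟨b, hb⟩
    exact congrArg Subtype.val this
  have hCA : ∀ x ∈ A, orderOf x = v → centralizer ({x} : Set T) = A := by
    intro x hx hxo
    refine le_antisymm (hC x hx hxo) fun a ha => ?_
    rw [mem_centralizer_singleton_iff]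
    exact hcomm a ha x hx
  obtain ⟨R', hR'⟩ := A.card_subgroup_dvd_card
  have hRR : g * R' = d * R := by
    apply Nat.eq_of_mul_eq_mul_left hA0
    calc Nat.card A * (g * R') = g * (Nat.card A * R') := by ring
      _ = N * R := by rw [← hR', hG]
      _ = Nat.card A * (d * R) := by rw [hd]; ring
  have hcp : ∀ x ∈ A, orderOf x = v → Nat.card (conjPow x) ≡ R' [MOD v] := by
    intro x hx hxo
    refine card_conjPow_modEq hv hxo (fun y hyo hyx => ?_) ?_
    · refine mem_zpowers_of_cyclic hv hcyc hx hxo ?_ hyo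
      rw [← hCA x hx hxo, mem_centralizer_singleton_iff]
      exact hyx
    · rw [hCA x hx hxo]
      exact hR'
  have hle : ∀ x : T, orderOf x = v → Nat.card (conjPow x) ≤ v - 1 := fun x hx => card_conjPow_le_sub_one hv hx
  have hv1 : 1 < v := hv.one_lt
  -- `R' = R`
  have key : R' = R → ∀ x ∈ A, orderOf x = v → Nat.card (conjPow x) = e := by
    intro h6 x hx hxo
    have h7 := (hcp x hx hxo)
    rw [h6] at h7
    have h8 := h7.trans hR
    have h9 := hle x hxo
    unfold Nat.ModEq at h8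
    rwa [Nat.mod_eq_of_lt (by omega), Nat.mod_eq_of_lt he] at h8
  rcases hg with rfl | rfl
  · have hd1 : d = 1 := Nat.dvd_one.1 hdg
    subst hd1
    rw [mul_one] at hd
    have h6 : R' = R := by omega
    refine not_SCC_of_count (c := e) hv hcyc rfl hvA hCA (fun x hx hxo => (key h6 x hx hxo).le) hO ?_
    rw [← hd]
    exact hlt1 rfl
  · have hc : ∀ x ∈ A, orderOf x = v → Nat.card (conjPow x) ≤ 2 * e := by
      intro x hx hxo
      rcases (Nat.dvd_prime Nat.prime_three).1 hdg with h6 | h6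
      · rw [h6, one_mul] at hRR
        obtain ⟨j, hj⟩ := conjPow_dvd hv hxo
        obtain ⟨E, hE⟩ : ∃ E, E = Nat.card (conjPow x) := ⟨_, rfl⟩
        rw [← hE] at hj ⊢
        have h7 : 3 * E ≡ e [MOD v] := by
          have h8 := (hcp x hx hxo).mul_left 3
          rw [hRR, ← hE] at h8
          exact h8.trans hR
        have h8 : v ∣ e * j + 3 := by
          have h9 : e * j + 3 ≡ 0 [MOD v] := by
            calc e * j + 3 ≡ 3 * E * j + 3 [MOD v] := (h7.symm.mul_right j).add_right 3
              _ = 3 * v := by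
                have : 3 * E * j = 3 * (E * j) := by ring
                rw [this, ← hj]
                omega
              _ ≡ 0 [MOD v] := (Nat.modEq_zero_iff_dvd).2 (dvd_mul_left _ _)
          exact (Nat.modEq_zero_iff_dvd).1 h9
        have h9 := Nat.le_of_dvd (by omega) h8
        obtain ⟨w, hw⟩ : ∃ w, v = w + 3 := ⟨v - 3, by omega⟩
        have h10 : E * v ≤ e * (v - 1) + 3 * E := by
          calc E * v ≤ E * (e * j + 3) := Nat.mul_le_mul_left _ h9
            _ = e * (E * j) + 3 * E := by ring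
            _ = _ := by rw [← hj]
        rw [hw] at h10
        have h11 : w + 3 - 1 = w + 2 := by omega
        rw [h11] at h10
        have hw2 : 2 ≤ w := by omega
        by_contra h12
        push Not at h12
        have h13 : (2 * e + 1) * w ≤ E * w := Nat.mul_le_mul_right _ h12
        nlinarith
      · rw [h6] at hRR
        have h7 : R' = R := by omega
        rw [key h7 x hx hxo]
        omega
    refine not_SCC_of_count (c := 2 * e) hv hcyc rfl hvA hCA hc hO ?_
    have h6 := hlt3 rfl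
    have hd3 : d ≤ 3 := Nat.le_of_dvd (by norm_num) hdg
    have h7 : N * (v - 1) ≤ 3 * (Nat.card A * (v - 1)) := by
      rw [hd]
      calc Nat.card A * d * (v - 1) ≤ Nat.card A * 3 * (v - 1) := Nat.mul_le_mul_right _ (Nat.mul_le_mul_left _ hd3)
        _ = _ := by ring
    omega

end Cfsg.Agent.H142.Der
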