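import Cfsg.Agent.H81.DerE6
import Cfsg.Agent.H142.Der.Torus
import Cfsg.Agent.H142.Der.Small
import Cfsg.Agent.H142.Der.Num

/-!
# `E₆(q)` and `²E₆(q)` in S3502 (helper142, task 2986)

* `ntc_E6` : `NTC` for `E₆(q)`; `ntc_TE6` : `NTC` for `²E₆(q)`, `q ≥ 3`.
-/

set_option autoImplicit false
set_option linter.unusedSectionVars false

namespace Cfsg.Agent.H142.Der

open Cfsg Cfsg.Lie Cfsg.Lie.ChevalleyDatum
open Cfsg.Agent.ChevalleyStructure Cfsg.Agent.ChevalleyStructure.Elts Cfsg.Agent.ChevalleyStructure.CoxeterGeomTypes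
open Cfsg.Agent.Nodes Cfsg.Agent.Nodes.RGDChev
open Cfsg.Agent.H129 Cfsg.Agent.H129.CycT Cfsg.Agent.H129.RealT Cfsg.Agent.H129.TorusTw Cfsg.Agent.H129.WData
open Cfsg.Agent.H436 (Prim exists_prim)
open Cfsg.Agent.H439.Der Cfsg.Agent.H190.Exc Cfsg.Agent.H81.Der
open Cfsg.Agent.H316.U6 (MData CentRoot)

universe u

theorem gcd3_cases (n : ℕ) : Nat.gcd 3 n = 1 ∨ Nat.gcd 3 n = 3 :=
  (Nat.dvd_prime Nat.prime_three).1 (Nat.gcd_dvd_left 3 n)

theorem four_le_of {q : ℕ} (hq : 2 ≤ q) (h : Nat.gcd 3 (q - 1) = 3) : 4 ≤ q := by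
  have h1 : 3 ∣ q - 1 := h ▸ Nat.gcd_dvd_right 3 (q - 1)
  have := Nat.le_of_dvd (by omega) h1
  omega

theorem five_le_of {q : ℕ} (hq : 3 ≤ q) (h : Nat.gcd 3 (q + 1) = 3) : 5 ≤ q := by
  have h1 : 3 ∣ q + 1 := h ▸ Nat.gcd_dvd_right 3 (q + 1)
  omega

theorem prim_ge {q e v : ℕ} (h : Prim q e v) (hq : 1 ≤ q) (he : ¬ (e + 1).Prime) : 2 * e + 1 ≤ v := by
  obtain ⟨k, hk⟩ := prim_dvd_sub h hq
  have h3 := h.prime.two_le
  rcases Nat.lt_or_ge k 2 with h4 | h4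
  · exfalso
    rcases Nat.lt_or_ge k 1 with h5 | h5
    · have h6 : k = 0 := by omega
      rw [h6, mul_zero] at hk
      omega
    · have h6 : k = 1 := by omega
      rw [h6, mul_one] at hk
      have h7 : v = e + 1 := by omega
      exact he (h7 ▸ h.prime)
  · have h5 : e * 2 ≤ e * k := Nat.mul_le_mul_left _ h4
    omega

section Untw

variable {F : Type} [Field F] [Fintype F] {q : ℕ}

theorem d_e6 (hq : Fintype.card F = q) : Nat.gcd 3 (q - 1) = 3 ∨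
    Nat.gcd 3 (q - 1) = 1 ∧ ∀ a : F, ∃ b : F, b ^ 3 = a := by
  rcases gcd3_cases (q - 1) with h | h
  · refine Or.inr ⟨h, exists_cube ?_⟩
    rw [hq]
    exact Nat.coprime_comm.1 h
  · exact Or.inl h

/-- **`E₆(q)`, class 8.** -/
theorem not_SCC_e6_8 (hq : Fintype.card F = q) {v f : ℕ} (h : Prim q 8 v) (hf : f < q)
    (hG : Nat.gcd 3 (q - 1) * Nat.card ↥(chevE6.group F) =
      q ^ 36 * (q ^ 2 - 1) * (q ^ 5 - 1) * (q ^ 6 - 1) * (q ^ 8 - 1) * (q ^ 9 - 1) * (q ^ 12 - 1))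
    (hO : Nat.card (Cfsg.Out ↥(chevE6.group F)) = 2 * Nat.gcd 3 (q - 1) * f) : ¬ SCC ↥(chevE6.group F) v := by
  have := TwT.finite_W6
  have hq2 : 2 ≤ q := by rw [← hq]; exact Fintype.one_lt_card
  have hle : 1 ≤ q ^ 2 := Nat.one_le_pow _ _ (by omega)
  have hN : ((q ^ 4 + 1 : ℕ) : ℤ) = 1 + (q : ℤ) ^ 4 := by push_cast; ring
  have hM : (((q ^ 4 + 1) * (q ^ 2 - 1) : ℕ) : ℤ) = -1 + (q : ℤ) ^ 2 - (q : ℤ) ^ 4 + (q : ℤ) ^ 6 := by
    push_cast [Nat.cast_sub hle]; ring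
  have hvN := phi8 h (by omega) hN
  have hg := prim_ge h (by omega) (by norm_num)
  obtain ⟨T, h1, h2, h3, h4, -⟩ := UntwT.untw_T typeE6 CoxeterMatrix.E₆.toCoxeterSystem (by norm_num) hq
    TorusChar.invC_E6 (by norm_num) DataE6e.hA DataE6e.chainOK DataE6e.cycOK DataE6e.rootOK
    (N := (q ^ 4 + 1) * (q ^ 2 - 1)) (by rw [DataE6e.fN_eq, hM])
    (coprime_of_neg (a := (q : ℤ) - (q : ℤ) ^ 3 + (q : ℤ) ^ 5) (by rw [hM]; ring)) (d := Nat.gcd 3 (q - 1)) (d_e6 hq)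
  have hC := h4 v h.prime (not_dvd_W_E6 h.prime (by omega) (by omega) (by omega)) fun s hs => by
    rcases DataE6e.dvd_of_G (cast_dvd hN hvN) s hs with h5 | h5
    · exact not_one h.prime h5
    · exact not_prime h.prime Nat.prime_two (by omega) h5
  have hnum := num8 (g := Nat.gcd 3 (q - 1)) hq2 (by omega : 17 ≤ v) (four_le_of hq2) f hf
  have hp : ∀ k, 1 ≤ q ^ k := fun k => Nat.one_le_pow _ _ (by omega)
  refine not_SCC_of_torus h1 h.prime (gcd3_cases _) (by omega) h2 h3 (hvN.mul_right _) hC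
    (R := q ^ 36 * ((q ^ 5 - 1) * (q ^ 6 - 1) * (q ^ 4 - 1) * (q ^ 9 - 1) * (q ^ 12 - 1))) (e := 8) ?_ ?_ (by omega)
    hO.le hnum.1 hnum.2
  · have h8 : q ^ 8 - 1 = (q ^ 4 - 1) * (q ^ 4 + 1) := by
      zify [hp 8, hp 4]
      ring
    rw [hG, h8]
    ring
  · rw [← ZMod.natCast_eq_natCast_iff]
    push_cast [Nat.cast_sub (hp 5), Nat.cast_sub (hp 6), Nat.cast_sub (hp 4), Nat.cast_sub (hp 9), Nat.cast_sub (hp 12)]
    refine eight_id ?_
    have h5 := (ZMod.natCast_eq_zero_iff (q ^ 4 + 1) v).2 hvN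
    push_cast at h5
    exact h5

/-- **`E₆(q)`, class 12.** -/
theorem not_SCC_e6_12 (hq : Fintype.card F = q) {v f : ℕ} (h : Prim q 12 v) (hf : f < q)
    (hG : Nat.gcd 3 (q - 1) * Nat.card ↥(chevE6.group F) =
      q ^ 36 * (q ^ 2 - 1) * (q ^ 5 - 1) * (q ^ 6 - 1) * (q ^ 8 - 1) * (q ^ 9 - 1) * (q ^ 12 - 1))
    (hO : Nat.card (Cfsg.Out ↥(chevE6.group F)) = 2 * Nat.gcd 3 (q - 1) * f) : ¬ SCC ↥(chevE6.group F) v := by
  have := TwT.finite_W6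
  have hq2 : 2 ≤ q := by rw [← hq]; exact Fintype.one_lt_card
  have hle : q ^ 2 ≤ q ^ 4 := Nat.pow_le_pow_right (by omega) (by norm_num)
  have hN : ((q ^ 4 - q ^ 2 + 1 : ℕ) : ℤ) = 1 - (q : ℤ) ^ 2 + (q : ℤ) ^ 4 := by push_cast [Nat.cast_sub hle]; ring
  have hM : (((q ^ 4 - q ^ 2 + 1) * (q ^ 2 + q + 1) : ℕ) : ℤ) = 1 + (q : ℤ) - (q : ℤ) ^ 3 + (q : ℤ) ^ 5 +
      (q : ℤ) ^ 6 := by
    push_cast [Nat.cast_sub hle]; ring
  have hvN := phi12 h (by omega) hN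
  have hg := prim_gt h (by omega)
  obtain ⟨T, h1, h2, h3, h4, -⟩ := UntwT.untw_T typeE6 CoxeterMatrix.E₆.toCoxeterSystem (by norm_num) hq
    TorusChar.invC_E6 (by norm_num) DataE6.hA DataE6.chainOK DataE6.cycOK DataE6.rootOK
    (N := (q ^ 4 - q ^ 2 + 1) * (q ^ 2 + q + 1)) (by rw [DataE6.fN_eq, hM])
    (UntwData.coprime_of_eq (a := 1 - (q : ℤ) ^ 2 + (q : ℤ) ^ 4 + (q : ℤ) ^ 5) (by rw [hM]; ring))
    (d := Nat.gcd 3 (q - 1)) (d_e6 hq)
  have hC := h4 v h.prime (not_dvd_W_E6 h.prime (by omega) (by omega) (by omega)) fun s hs => by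
    rcases DataE6.dvd_of_G (cast_dvd hN hvN) s hs with h5 | h5
    · exact not_one h.prime h5
    · exact not_prime h.prime Nat.prime_two (by omega) h5
  have hnum := num12 (g := Nat.gcd 3 (q - 1)) hq2 (by omega : 13 ≤ v) (four_le_of hq2) f hf
  have hp : ∀ k, 1 ≤ q ^ k := fun k => Nat.one_le_pow _ _ (by omega)
  refine not_SCC_of_torus h1 h.prime (gcd3_cases _) (by omega) h2 h3 (hvN.mul_right _) hC
    (R := q ^ 36 * ((q ^ 2 - 1) * (q ^ 5 - 1) * (q ^ 6 - 1) * (q ^ 8 - 1) * ((q - 1) * (q ^ 6 + q ^ 3 + 1)) *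
      ((q ^ 6 - 1) * (q ^ 2 + 1)))) (e := 12) ?_ ?_ (by omega) hO.le hnum.1 hnum.2
  · have h9 : q ^ 9 - 1 = (q ^ 2 + q + 1) * ((q - 1) * (q ^ 6 + q ^ 3 + 1)) := by
      zify [hp 9, (by omega : 1 ≤ q)]
      ring
    have h12 : q ^ 12 - 1 = (q ^ 4 - q ^ 2 + 1) * ((q ^ 6 - 1) * (q ^ 2 + 1)) := by
      zify [hp 12, hp 6, hle]
      ring
    rw [hG, h9, h12]
    ring
  · rw [← ZMod.natCast_eq_natCast_iff]
    push_cast [Nat.cast_sub (hp 2), Nat.cast_sub (hp 5), Nat.cast_sub (hp 6), Nat.cast_sub (hp 8),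
      Nat.cast_sub (by omega : 1 ≤ q)]
    refine twelve_id ?_
    have h5 := (ZMod.natCast_eq_zero_iff (q ^ 4 - q ^ 2 + 1) v).2 hvN
    push_cast [Nat.cast_sub hle] at h5
    exact h5

/-- **`E₆(q)`, class 9.** -/
theorem not_SCC_e6_9 (hq : Fintype.card F = q) {v f : ℕ} (h : Prim q 9 v) (hf : f < q)
    (hG : Nat.gcd 3 (q - 1) * Nat.card ↥(chevE6.group F) =
      q ^ 36 * (q ^ 2 - 1) * (q ^ 5 - 1) * (q ^ 6 - 1) * (q ^ 8 - 1) * (q ^ 9 - 1) * (q ^ 12 - 1))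
    (hO : Nat.card (Cfsg.Out ↥(chevE6.group F)) = 2 * Nat.gcd 3 (q - 1) * f) : ¬ SCC ↥(chevE6.group F) v := by
  have hq2 : 2 ≤ q := by rw [← hq]; exact Fintype.one_lt_card
  have hN : ((q ^ 6 + q ^ 3 + 1 : ℕ) : ℤ) = 1 + (q : ℤ) ^ 3 + (q : ℤ) ^ 6 := by push_cast; ring
  have hE := exact_E6_9 hq hN
  have hvN := phi9 h (by omega) hN
  have hg := prim_ge h (by omega) (by norm_num)
  have h3 : (q ^ 6 + q ^ 3 + 1) / Nat.gcd 3 (q - 1) * Nat.gcd 3 (q - 1) = q ^ 6 + q ^ 3 + 1 := by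
    refine Nat.div_mul_cancel ?_
    rcases gcd3_cases (q - 1) with h4 | h4
    · rw [h4]; exact one_dvd _
    · rw [h4, ← ZMod.natCast_eq_zero_iff]
      have h5 : 3 ∣ q - 1 := h4 ▸ Nat.gcd_dvd_right 3 (q - 1)
      have h7 := (ZMod.natCast_eq_zero_iff (q - 1) 3).2 h5
      rw [Nat.cast_sub (by omega), Nat.cast_one, sub_eq_zero] at h7
      push_cast
      rw [h7]
      decide
  obtain ⟨T, hT1, hT2, hT3⟩ := hE
  rw [← hT2] at h3
  have hnum := num9 (g := Nat.gcd 3 (q - 1)) hq2 (by omega : 19 ≤ v) (four_le_of hq2) f hf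
  have hp : ∀ k, 1 ≤ q ^ k := fun k => Nat.one_le_pow _ _ (by omega)
  refine not_SCC_of_torus hT1 h.prime (gcd3_cases _) (by omega) ⟨_, h3.symm⟩ (by rw [← h3, mul_comm]) hvN
    (fun y hy hyo => (hT3 y hy ?_).le)
    (R := q ^ 36 * ((q ^ 2 - 1) * (q ^ 5 - 1) * (q ^ 6 - 1) * (q ^ 8 - 1) * (q ^ 3 - 1) * (q ^ 12 - 1)))
    (e := 9) ?_ ?_ (by omega) hO.le hnum.1 hnum.2
  · rintro rfl
    rw [orderOf_one] at hyo
    exact h.prime.one_lt.ne hyo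
  · have h9 : q ^ 9 - 1 = (q ^ 3 - 1) * (q ^ 6 + q ^ 3 + 1) := by
      zify [hp 9, hp 3]
      ring
    rw [hG, h9]
    ring
  · rw [← ZMod.natCast_eq_natCast_iff]
    push_cast [Nat.cast_sub (hp 2), Nat.cast_sub (hp 5), Nat.cast_sub (hp 6), Nat.cast_sub (hp 8),
      Nat.cast_sub (hp 3), Nat.cast_sub (hp 12)]
    refine nine_id ?_
    have h5 := (ZMod.natCast_eq_zero_iff (q ^ 6 + q ^ 3 + 1) v).2 hvN
    push_cast at h5
    exact h5

/-- **`NTC` for `E₆(q)`.** -/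
theorem ntc_E6 : NTC ↥(chevE6.group F) := by
  obtain ⟨r, hch⟩ := CharP.exists F
  obtain ⟨⟨f, hf0⟩, hr, hqf⟩ := FiniteField.card F r
  have hqf' : Fintype.card F = r ^ f := hqf
  have hrf : Fact r.Prime := ⟨hr⟩
  have hq2 : 2 ≤ Fintype.card F := Fintype.one_lt_card
  obtain ⟨q, hqd⟩ : ∃ q, q = Fintype.card F := ⟨_, rfl⟩
  have hfin : Finite ↥(chevE6.group F) := inferInstance
  have hp : IsType chevE6 6 CoxeterMatrix.E₆ := by simp [IsType, typeList]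
  obtain ⟨m, hg, hdd⟩ := H316.U6.mdata_untw (r := r) hp
    (fun h => absurd (congrArg ChevalleyDatum.nroots h) (by decide))
    (fun h => absurd (congrArg ChevalleyDatum.nroots h) (by decide)) F
  have hdd3 : m.dd ∣ 3 := by
    rcases hdd with ⟨h, -⟩ | ⟨h, -⟩ | ⟨-, h⟩
    · rw [h]; exact one_dvd _
    · rw [h]; exact Nat.gcd_dvd_left _ _
    · exact absurd (congrArg ChevalleyDatum.nroots h) (by decide)
  have hrq : r ∣ q := by rw [hqd, hqf']; exact dvd_pow_self r hf0.ne'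
  have hmq : r ^ m.e = q := by rw [m.hq, hqd]
  have hG := S1063.result (F := F) (q := q) hqd.symm
  have hfq : f < q := by rw [hqd, hqf']; exact Nat.lt_pow_self hr.one_lt
  have hO : Nat.card (Cfsg.Out ↥(chevE6.group F)) = 2 * Nat.gcd 3 (q - 1) * f := by
    rw [S2123.result r f hqf', hqd, hqf']
  -- the auxiliary primes
  have aux : ∀ e, 2 < e → e < 5 → ∃ p, p.Prime ∧ 5 ≤ p ∧ p ≠ r ∧ orderOf (q : ZMod p) = e ∧ CentRoot m p := by
    intro e h3 h5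
    obtain ⟨p, hpe⟩ := exists_prim (q := q) (e := e) (by omega) (by omega) (by omega)
    have hpf : Fact p.Prime := ⟨hpe.prime⟩
    have hpr : p ≠ r := by
      rintro rfl
      exact hpe.not_dvd hrq
    have ho := order_of_prim hpe (by omega)
    have ho' : orderOf ((r ^ m.e : ℕ) : ZMod p) = e := by rw [hmq]; exact ho
    have hd := prim_dvd_sub hpe (by omega)
    have hp5 : 5 ≤ p := by
      have h6 := prim_gt hpe (by omega)
      have h7 : p ≠ 4 := by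
        rintro rfl
        exact absurd hpe.prime (by norm_num)
      omega
    exact ⟨p, hpe.prime, hp5, hpr, ho, centRoot_E6 m hg hdd3 (by omega) hpr (by rw [ho']; omega)
      (by rw [ho']; omega)⟩
  obtain ⟨s, hs, hs5, hsr, hso, hsc⟩ := aux 4 (by norm_num) (by norm_num)
  obtain ⟨s', hs', -, hsr', hso', hsc'⟩ := aux 3 (by norm_num) (by norm_num)
  have hodd : Odd (ChevalleyStructure.HMatDiagAll.expo chevE6 (chevE6.nroots - 1) (chevE6.simple 1)) := by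
    decide +kernel
  intro v hv hvT
  have hvf : Fact v.Prime := ⟨hv⟩
  by_cases hvr : v = r
  · -- the characteristic
    rw [hvr]
    refine not_SCC_char hs hsr hsc hs' hsr' hsc' ?_
    rintro rfl
    omega
  by_cases hv2 : v = 2
  · subst hv2
    exact not_SCC_of_centRoot hv hvr (centRoot_two m (Ne.symm hvr) (t := chevE6.simple 1) (by decide) hodd)
      (by decide) hodd hs hs5 hsr hsc
  -- the order of `q`
  have hvq : ¬ v ∣ q := by
    intro h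
    rw [hqd, hqf'] at h
    exact hvr ((Nat.prime_dvd_prime_iff_eq hv hr).1 (hv.dvd_of_dvd_pow h))
  have h1 : v ∣ q ^ 36 * (q ^ 2 - 1) * (q ^ 5 - 1) * (q ^ 6 - 1) * (q ^ 8 - 1) * (q ^ 9 - 1) * (q ^ 12 - 1) := by
    rw [← hG]
    exact hvT.mul_left _
  have hq1 : 1 ≤ q := by omega
  obtain ⟨d, hd⟩ : ∃ d, d = orderOf (q : ZMod v) := ⟨_, rfl⟩
  have h2 : d ∣ 2 ∨ d ∣ 5 ∨ d ∣ 6 ∨ d ∣ 8 ∨ d ∣ 9 ∨ d ∣ 12 := by
    rw [hd]
    rcases (hv.dvd_mul).1 h1 with h1 | h1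
    · rcases (hv.dvd_mul).1 h1 with h1 | h1
      · rcases (hv.dvd_mul).1 h1 with h1 | h1
        · rcases (hv.dvd_mul).1 h1 with h1 | h1
          · rcases (hv.dvd_mul).1 h1 with h1 | h1
            · rcases (hv.dvd_mul).1 h1 with h1 | h1
              · exact absurd (hv.dvd_of_dvd_pow h1) hvq
              · exact Or.inl (order_dvd_of hq1 h1)
            · exact Or.inr (Or.inl (order_dvd_of hq1 h1))
          · exact Or.inr (Or.inr (Or.inl (order_dvd_of hq1 h1)))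
        · exact Or.inr (Or.inr (Or.inr (Or.inl (order_dvd_of hq1 h1))))
      · exact Or.inr (Or.inr (Or.inr (Or.inr (Or.inl (order_dvd_of hq1 h1)))))
    · exact Or.inr (Or.inr (Or.inr (Or.inr (Or.inr (order_dvd_of hq1 h1)))))
  have h3 : (1 ≤ d ∧ d ≤ 6) ∨ d = 8 ∨ d = 9 ∨ d = 12 := by
    have h4 : d ≤ 12 := by
      rcases h2 with h | h | h | h | h | h <;> exact (Nat.le_of_dvd (by norm_num) h).trans (by norm_num)
    clear hd
    interval_cases d <;> revert h2 <;> decide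
  rcases h3 with ⟨h3, h4⟩ | h3 | h3 | h3
  · have ho : orderOf ((r ^ m.e : ℕ) : ZMod v) = d := by rw [hmq, hd]
    exact not_SCC_of_centRoot hv hvr (centRoot_E6 m hg hdd3 hv2 hvr (by rw [ho]; omega) (by rw [ho]; omega))
      (by decide) hodd hs hs5 hsr hsc
  · exact not_SCC_e6_8 hqd.symm (prim_of hv hq1 hvq (hd.symm.trans h3)) hfq hG hO
  · exact not_SCC_e6_9 hqd.symm (prim_of hv hq1 hvq (hd.symm.trans h3)) hfq hG hO
  · exact not_SCC_e6_12 hqd.symm (prim_of hv hq1 hvq (hd.symm.trans h3)) hfq hG hO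

end Untw

section Tw

variable {F : Type} [Field F] [Fintype F] {q : ℕ}

/-- **`²E₆(q)`, class 8.** -/
theorem not_SCC_te6_8 (hq : IsPrimePow q) (hK : Fintype.card F = q ^ 2) (hq3 : 3 ≤ q) {v f : ℕ} (h : Prim q 8 v)
    (hf : f < q)
    (hG : Nat.gcd 3 (q + 1) * Nat.card ↥(twistedE6 F q) =
      q ^ 36 * (q ^ 2 - 1) * (q ^ 5 + 1) * (q ^ 6 - 1) * (q ^ 8 - 1) * (q ^ 9 + 1) * (q ^ 12 - 1))
    (hO : Nat.card (Cfsg.Out ↥(twistedE6 F q)) = 2 * Nat.gcd 3 (q + 1) * f) : ¬ SCC ↥(twistedE6 F q) v := by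
  have hle : 1 ≤ q ^ 2 := Nat.one_le_pow _ _ (by omega)
  have hN : ((q ^ 4 + 1 : ℕ) : ℤ) = 1 + (q : ℤ) ^ 4 := by push_cast; ring
  have hM : (((q ^ 4 + 1) * (q ^ 2 - 1) : ℕ) : ℤ) = -1 + (q : ℤ) ^ 2 - (q : ℤ) ^ 4 + (q : ℤ) ^ 6 := by
    push_cast [Nat.cast_sub hle]; ring
  have hvN := phi8 h (by omega) hN
  have hg := prim_ge h (by omega) (by norm_num)
  obtain ⟨T, h1, h2, h3, h4, -⟩ := TwT.flip_T hq hK DataTE6e.hA DataTE6e.chainOK DataTE6e.hd_pi DataTE6e.cycOK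
    DataTE6e.rootOK DataTE6e.chain2OK DataTE6e.hd2_eq (N := (q ^ 4 + 1) * (q ^ 2 - 1)) (by rw [DataTE6e.fN_eq, hM])
    (coprime_of_neg (a := (q : ℤ) - (q : ℤ) ^ 3 + (q : ℤ) ^ 5) (by rw [hM]; ring))
  have hC := h4 v h.prime (not_dvd_W_E6 h.prime (by omega) (by omega) (by omega)) fun s hs => by
    rcases DataTE6e.dvd_of_G (cast_dvd hN hvN) s hs with h5 | h5
    · exact not_one h.prime h5
    · exact not_prime h.prime Nat.prime_two (by omega) h5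
  have hnum := num8 (g := Nat.gcd 3 (q + 1)) (by omega : 2 ≤ q) (by omega : 17 ≤ v)
    (fun h5 => (by norm_num : 4 ≤ 5).trans (five_le_of hq3 h5)) f hf
  have hp : ∀ k, 1 ≤ q ^ k := fun k => Nat.one_le_pow _ _ (by omega)
  refine not_SCC_of_torus h1 h.prime (gcd3_cases _) (by omega) h2 h3 (hvN.mul_right _) hC
    (R := q ^ 36 * ((q ^ 5 + 1) * (q ^ 6 - 1) * (q ^ 4 - 1) * (q ^ 9 + 1) * (q ^ 12 - 1))) (e := 8) ?_ ?_ (by omega)
    hO.le hnum.1 hnum.2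
  · have h8 : q ^ 8 - 1 = (q ^ 4 - 1) * (q ^ 4 + 1) := by
      zify [hp 8, hp 4]
      ring
    rw [hG, h8]
    ring
  · rw [← ZMod.natCast_eq_natCast_iff]
    push_cast [Nat.cast_sub (hp 6), Nat.cast_sub (hp 4), Nat.cast_sub (hp 12)]
    have h5 := (ZMod.natCast_eq_zero_iff (q ^ 4 + 1) v).2 hvN
    push_cast at h5
    have h6 := eight_id (x := -(q : ZMod v)) (by linear_combination h5)
    rw [← h6]
    ring

/-- **`²E₆(q)`, class 12.** -/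
theorem not_SCC_te6_12 (hq : IsPrimePow q) (hK : Fintype.card F = q ^ 2) (hq3 : 3 ≤ q) {v f : ℕ} (h : Prim q 12 v)
    (hf : f < q)
    (hG : Nat.gcd 3 (q + 1) * Nat.card ↥(twistedE6 F q) =
      q ^ 36 * (q ^ 2 - 1) * (q ^ 5 + 1) * (q ^ 6 - 1) * (q ^ 8 - 1) * (q ^ 9 + 1) * (q ^ 12 - 1))
    (hO : Nat.card (Cfsg.Out ↥(twistedE6 F q)) = 2 * Nat.gcd 3 (q + 1) * f) : ¬ SCC ↥(twistedE6 F q) v := by
  have hle : q ^ 2 ≤ q ^ 4 := Nat.pow_le_pow_right (by omega) (by norm_num)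
  have hle' : q ≤ q ^ 2 := by nlinarith
  have hN : ((q ^ 4 - q ^ 2 + 1 : ℕ) : ℤ) = 1 - (q : ℤ) ^ 2 + (q : ℤ) ^ 4 := by push_cast [Nat.cast_sub hle]; ring
  have hM : (((q ^ 4 - q ^ 2 + 1) * (q ^ 2 - q + 1) : ℕ) : ℤ) = 1 - (q : ℤ) + (q : ℤ) ^ 3 - (q : ℤ) ^ 5 +
      (q : ℤ) ^ 6 := by
    push_cast [Nat.cast_sub hle, Nat.cast_sub hle']; ring
  have hvN := phi12 h (by omega) hN
  have hg := prim_gt h (by omega)
  obtain ⟨T, h1, h2, h3, h4, -⟩ := TwT.flip_T hq hK DataTE6c.hA DataTE6c.chainOK DataTE6c.hd_pi DataTE6c.cycOK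
    DataTE6c.rootOK DataTE6c.chain2OK DataTE6c.hd2_eq (N := (q ^ 4 - q ^ 2 + 1) * (q ^ 2 - q + 1))
    (by rw [DataTE6c.fN_eq, hM])
    (UntwData.coprime_of_eq (a := -1 + (q : ℤ) ^ 2 - (q : ℤ) ^ 4 + (q : ℤ) ^ 5) (by rw [hM]; ring))
  have hC := h4 v h.prime (not_dvd_W_E6 h.prime (by omega) (by omega) (by omega)) fun s hs => by
    rcases DataTE6c.dvd_of_G (cast_dvd hN hvN) s hs with h5 | h5
    · exact not_one h.prime h5
    · exact not_prime h.prime Nat.prime_two (by omega) h5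
  have hnum := num12t (g := Nat.gcd 3 (q + 1)) hq3 (by omega : 13 ≤ v) (five_le_of hq3) f hf
  have hp : ∀ k, 1 ≤ q ^ k := fun k => Nat.one_le_pow _ _ (by omega)
  have hle3 : q ^ 3 ≤ q ^ 6 := Nat.pow_le_pow_right (by omega) (by norm_num)
  refine not_SCC_of_torus h1 h.prime (gcd3_cases _) (by omega) h2 h3 (hvN.mul_right _) hC
    (R := q ^ 36 * ((q ^ 2 - 1) * (q ^ 5 + 1) * (q ^ 6 - 1) * (q ^ 8 - 1) * ((q + 1) * (q ^ 6 - q ^ 3 + 1)) *
      ((q ^ 6 - 1) * (q ^ 2 + 1)))) (e := 12) ?_ ?_ (by omega) hO.le hnum.1 hnum.2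
  · have h9 : q ^ 9 + 1 = (q ^ 2 - q + 1) * ((q + 1) * (q ^ 6 - q ^ 3 + 1)) := by
      zify [hle', hle3]
      ring
    have h12 : q ^ 12 - 1 = (q ^ 4 - q ^ 2 + 1) * ((q ^ 6 - 1) * (q ^ 2 + 1)) := by
      zify [hp 12, hp 6, hle]
      ring
    rw [hG, h9, h12]
    ring
  · rw [← ZMod.natCast_eq_natCast_iff]
    push_cast [Nat.cast_sub (hp 2), Nat.cast_sub (hp 6), Nat.cast_sub (hp 8), Nat.cast_sub hle3]
    have h5 := (ZMod.natCast_eq_zero_iff (q ^ 4 - q ^ 2 + 1) v).2 hvN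
    push_cast [Nat.cast_sub hle] at h5
    have h6 := twelve_id (x := -(q : ZMod v)) (by linear_combination h5)
    rw [← h6]
    ring

/-- **`²E₆(q)`, class 18.** -/
theorem not_SCC_te6_18 (hq : IsPrimePow q) (hK : Fintype.card F = q ^ 2) (hq3 : 3 ≤ q) {v f : ℕ} (h : Prim q 18 v)
    (hf : f < q)
    (hG : Nat.gcd 3 (q + 1) * Nat.card ↥(twistedE6 F q) =
      q ^ 36 * (q ^ 2 - 1) * (q ^ 5 + 1) * (q ^ 6 - 1) * (q ^ 8 - 1) * (q ^ 9 + 1) * (q ^ 12 - 1))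
    (hO : Nat.card (Cfsg.Out ↥(twistedE6 F q)) = 2 * Nat.gcd 3 (q + 1) * f) : ¬ SCC ↥(twistedE6 F q) v := by
  have hle : q ^ 3 ≤ q ^ 6 := Nat.pow_le_pow_right (by omega) (by norm_num)
  have hN : ((q ^ 6 - q ^ 3 + 1 : ℕ) : ℤ) = 1 - (q : ℤ) ^ 3 + (q : ℤ) ^ 6 := by push_cast [Nat.cast_sub hle]; ring
  have hE := exact_tE6_18 hq hK hN
  have hvN := phi18 h (by omega) hN
  have hg := prim_gt h (by omega)
  have h3 : (q ^ 6 - q ^ 3 + 1) / Nat.gcd 3 (q + 1) * Nat.gcd 3 (q + 1) = q ^ 6 - q ^ 3 + 1 := by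
    refine Nat.div_mul_cancel ?_
    rcases gcd3_cases (q + 1) with h4 | h4
    · rw [h4]; exact one_dvd _
    · rw [h4]
      refine prim_nat hN ?_
      have h5 : 3 ∣ q + 1 := h4 ▸ Nat.gcd_dvd_right 3 (q + 1)
      have h7 := (ZMod.natCast_eq_zero_iff (q + 1) 3).2 h5
      push_cast at h7
      have h8 : (q : ZMod 3) = -1 := eq_neg_of_add_eq_zero_left h7
      push_cast
      rw [h8]
      decide
  obtain ⟨T, hT1, hT2, hT3⟩ := hE
  rw [← hT2] at h3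
  have hnum := num18 (g := Nat.gcd 3 (q + 1)) hq3 (by omega : 19 ≤ v) (five_le_of hq3) f hf
  have hp : ∀ k, 1 ≤ q ^ k := fun k => Nat.one_le_pow _ _ (by omega)
  refine not_SCC_of_torus hT1 h.prime (gcd3_cases _) (by omega) ⟨_, h3.symm⟩ (by rw [← h3, mul_comm]) hvN
    (fun y hy hyo => (hT3 y hy ?_).le)
    (R := q ^ 36 * ((q ^ 2 - 1) * (q ^ 5 + 1) * (q ^ 6 - 1) * (q ^ 8 - 1) * (q ^ 3 + 1) * (q ^ 12 - 1)))
    (e := 9) ?_ ?_ (by omega) hO.le hnum.1 hnum.2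
  · rintro rfl
    rw [orderOf_one] at hyo
    exact h.prime.one_lt.ne hyo
  · have h9 : q ^ 9 + 1 = (q ^ 3 + 1) * (q ^ 6 - q ^ 3 + 1) := by
      zify [hle]
      ring
    rw [hG, h9]
    ring
  · rw [← ZMod.natCast_eq_natCast_iff]
    push_cast [Nat.cast_sub (hp 2), Nat.cast_sub (hp 6), Nat.cast_sub (hp 8), Nat.cast_sub (hp 12)]
    have h5 := (ZMod.natCast_eq_zero_iff (q ^ 6 - q ^ 3 + 1) v).2 hvN
    push_cast [Nat.cast_sub hle] at h5
    have h6 := nine_id (x := -(q : ZMod v)) (by linear_combination h5)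
    rw [← h6]
    ring

/-- the small classes of `²E₆(q)` -/
theorem small_TE6 (hq : IsPrimePow q) (hK : Fintype.card F = q ^ 2) {v : ℕ} (hv : v.Prime)
    (hd : v ∣ q ∨ v = 2 ∨ orderOf (q : ZMod v) = 1 ∨ orderOf (q : ZMod v) = 2 ∨ orderOf (q : ZMod v) = 3 ∨
      orderOf (q : ZMod v) = 4 ∨ orderOf (q : ZMod v) = 6 ∨ orderOf (q : ZMod v) = 10) :
    ¬ SCC ↥(twistedE6 F q) v := by
  obtain ⟨r, f, hr, hf0, hrf'⟩ := (isPrimePow_nat_iff q).1 hq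
  have hrf : Fact r.Prime := ⟨hr⟩
  have hch : CharP F r := by
    have h1 : Fintype.card F = r ^ (2 * f) := by rw [hK, ← hrf', ← pow_mul, mul_comm]
    exact charP_of_card_eq_prime_pow h1
  have hfin : Finite ↥(twistedE6 F q) := inferInstance
  obtain ⟨m, hdd, hg⟩ := H316.U6.mdata_twE6' (r := r) hq hK
  have hdd3 : m.dd ∣ 3 := by rw [hdd]; exact Nat.gcd_dvd_left _ _
  have hrq : r ∣ q := by rw [← hrf']; exact dvd_pow_self r hf0.ne'
  have hmq : r ^ m.e = q := m.hq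
  have hq2 : 2 ≤ q := hq.two_le
  have hq1 : 1 ≤ q := by omega
  -- the auxiliary primes
  have aux : ∀ e, 2 < e → e < 5 → ∃ p, p.Prime ∧ 5 ≤ p ∧ p ≠ r ∧ orderOf (q : ZMod p) = e ∧ CentRoot m p := by
    intro e h3 h5
    obtain ⟨p, hpe⟩ := exists_prim (q := q) (e := e) (by omega) (by omega) (by omega)
    have hpf : Fact p.Prime := ⟨hpe.prime⟩
    have hpr : p ≠ r := by
      rintro rfl
      exact hpe.not_dvd hrq
    have ho := order_of_prim hpe (by omega)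
    have ho' : orderOf ((r ^ m.e : ℕ) : ZMod p) = e := by rw [hmq]; exact ho
    have hp5 : 5 ≤ p := by
      have h6 := prim_gt hpe (by omega)
      have h7 : p ≠ 4 := by
        rintro rfl
        exact absurd hpe.prime (by norm_num)
      omega
    exact ⟨p, hpe.prime, hp5, hpr, ho, centRoot_TE6 m hg hdd3 (by omega) hpr (by rw [ho']; omega)⟩
  obtain ⟨s, hs, hs5, hsr, hso, hsc⟩ := aux 4 (by norm_num) (by norm_num)
  obtain ⟨s', hs', -, hsr', hso', hsc'⟩ := aux 3 (by norm_num) (by norm_num)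
  have hodd : Odd (ChevalleyStructure.HMatDiagAll.expo chevE6 (chevE6.nroots - 1) (chevE6.simple 1)) := by
    decide +kernel
  have hvf : Fact v.Prime := ⟨hv⟩
  by_cases hvr : v = r
  · -- the characteristic
    rw [hvr]
    refine not_SCC_char hs hsr hsc hs' hsr' hsc' ?_
    rintro rfl
    omega
  by_cases hv2 : v = 2
  · subst hv2
    exact not_SCC_of_centRoot hv hvr (centRoot_two m (Ne.symm hvr) (t := chevE6.simple 1) (by decide) hodd)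
      (by decide) hodd hs hs5 hsr hsc
  have hvq : ¬ v ∣ q := by
    intro h
    rw [← hrf'] at h
    exact hvr ((Nat.prime_dvd_prime_iff_eq hv hr).1 (hv.dvd_of_dvd_pow h))
  have hd' := (hd.resolve_left hvq).resolve_left hv2
  rw [← hmq] at hd'
  exact not_SCC_of_centRoot hv hvr (centRoot_TE6 m hg hdd3 hv2 hvr hd') (by decide) hodd hs hs5 hsr hsc

/-- **`NTC` for `²E₆(q)`, `q ≥ 3`.** -/
theorem ntc_TE6 (hq : IsPrimePow q) (hK : Fintype.card F = q ^ 2) (hq3 : 3 ≤ q) : NTC ↥(twistedE6 F q) := by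
  obtain ⟨r, f, hr, hf0, hrf'⟩ := (isPrimePow_nat_iff q).1 hq
  have hG := S1066.result (K := F) hq hK
  have hq1 : 1 ≤ q := by omega
  have hfq : f < q := by rw [← hrf']; exact Nat.lt_pow_self hr.one_lt
  have hrf : Fact r.Prime := ⟨hr⟩
  have hch : CharP F r := by
    have h1 : Fintype.card F = r ^ (2 * f) := by rw [hK, ← hrf', ← pow_mul, mul_comm]
    exact charP_of_card_eq_prime_pow h1
  have hO : Nat.card (Cfsg.Out ↥(twistedE6 F q)) = 2 * Nat.gcd 3 (q + 1) * f := by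
    subst hrf'
    exact S2130.result r f (by rw [hK, ← pow_mul, mul_comm]) hf0
  intro v hv hvT
  have hvf : Fact v.Prime := ⟨hv⟩
  by_cases hvq : v ∣ q
  · exact small_TE6 hq hK hv (Or.inl hvq)
  by_cases hv2 : v = 2
  · exact small_TE6 hq hK hv (Or.inr (Or.inl hv2))
  have h1 : v ∣ q ^ 36 * (q ^ 2 - 1) * (q ^ 5 + 1) * (q ^ 6 - 1) * (q ^ 8 - 1) * (q ^ 9 + 1) * (q ^ 12 - 1) := by
    rw [← hG]
    exact hvT.mul_left _
  obtain ⟨d, hd⟩ : ∃ d, d = orderOf (q : ZMod v) := ⟨_, rfl⟩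
  have h2 : d ∣ 2 ∨ (d ∣ 10 ∧ ¬ d ∣ 5) ∨ d ∣ 6 ∨ d ∣ 8 ∨ (d ∣ 18 ∧ ¬ d ∣ 9) ∨ d ∣ 12 := by
    rw [hd]
    rcases (hv.dvd_mul).1 h1 with h1 | h1
    · rcases (hv.dvd_mul).1 h1 with h1 | h1
      · rcases (hv.dvd_mul).1 h1 with h1 | h1
        · rcases (hv.dvd_mul).1 h1 with h1 | h1
          · rcases (hv.dvd_mul).1 h1 with h1 | h1
            · rcases (hv.dvd_mul).1 h1 with h1 | h1
              · exact absurd (hv.dvd_of_dvd_pow h1) hvq
              · exact Or.inl (order_dvd_of hq1 h1)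
            · exact Or.inr (Or.inl (order_dvd_of_add hv2 h1))
          · exact Or.inr (Or.inr (Or.inl (order_dvd_of hq1 h1)))
        · exact Or.inr (Or.inr (Or.inr (Or.inl (order_dvd_of hq1 h1))))
      · exact Or.inr (Or.inr (Or.inr (Or.inr (Or.inl (order_dvd_of_add hv2 h1)))))
    · exact Or.inr (Or.inr (Or.inr (Or.inr (Or.inr (order_dvd_of hq1 h1)))))
  have h3 : (d = 1 ∨ d = 2 ∨ d = 3 ∨ d = 4 ∨ d = 6 ∨ d = 10) ∨ d = 8 ∨ d = 18 ∨ d = 12 := by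
    have h4 : d ≤ 18 := by
      rcases h2 with h | ⟨h, -⟩ | h | h | ⟨h, -⟩ | h <;> exact (Nat.le_of_dvd (by norm_num) h).trans (by norm_num)
    clear hd
    interval_cases d <;> revert h2 <;> decide
  rcases h3 with h3 | h3 | h3 | h3
  · exact small_TE6 hq hK hv (Or.inr (Or.inr (hd ▸ h3)))
  · exact not_SCC_te6_8 hq hK hq3 (prim_of hv hq1 hvq (hd.symm.trans h3)) hfq hG hO
  · exact not_SCC_te6_18 hq hK hq3 (prim_of hv hq1 hvq (hd.symm.trans h3)) hfq hG hO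
  · exact not_SCC_te6_12 hq hK hq3 (prim_of hv hq1 hvq (hd.symm.trans h3)) hfq hG hO

end Tw

end Cfsg.Agent.H142.Der
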