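import Cfsg.Agent.TwoESix.Phi

/-!
# `²E₆(2)`: an involutory automorphism fixing an element of order 17 (helper142)
-/

set_option autoImplicit false

namespace Cfsg.Agent.H142.Der.Seventeen

open Cfsg.Lie
open Cfsg.Agent.TwoESix.Data Cfsg.Agent.TwoESix.Iso Cfsg.Agent.TwoESix.Phi
open Cfsg.Agent.Lib Cfsg.Agent.Lib.F2MatGroup

/-- the word of the element of order 17 -/
def w0 : List ℕ := [1, 8, 5, 8, 3, 2, 15, 16, 11, 4]

/-- its powers -/
def ws : List (List ℕ) := [w0, [0, 0], [0, 0], [0, 0], [0, 0]]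

/-- the straight line program in an abstract group -/
theorem run_facts {G : Type*} [Group G] (p : G) (f : Fin 16 → G) {L : List G} (hL : L = p :: List.ofFn f) :
    evG (runG ws L) [0, 4] = evG L w0 ^ 17 ∧ evG (runG ws L) [5, 4] = p * evG L w0 ∧
      evG (runG ws L) [4, 5] = evG L w0 * p ∧ evG (runG ws L) [4] = evG L w0 ∧ evG (runG ws L) [11] = f 5 ∧
      evG (runG ws L) [12] = f 6 := by
  obtain ⟨g, hg⟩ : ∃ g, g = evG L w0 := ⟨_, rfl⟩
  have e0 : runG ws L = (g * g * (g * g) * (g * g * (g * g)) * (g * g * (g * g) * (g * g * (g * g)))) ::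
      (g * g * (g * g) * (g * g * (g * g))) :: (g * g * (g * g)) :: (g * g) :: g :: L := by
    unfold ws
    simp only [runG_cons, runG_nil, evG_cons, evG_nil, getG, List.getD_cons_zero, mul_one, ← hg]
  rw [e0, ← hg]
  subst hL
  simp only [evG_cons, evG_nil, getG, mul_one, List.getD_cons_zero, List.getD_cons_succ]
  refine ⟨?_, trivial, trivial, trivial, ?_, ?_⟩
  · simp only [pow_succ, pow_zero, one_mul, mul_assoc]
  · rw [List.getD_eq_getElem _ _ (by simp), List.getElem_ofFn]
    rfl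
  · rw [List.getD_eq_getElem _ _ (by simp), List.getElem_ofFn]
    rfl

theorem mem_facts {G : Type*} [Group G] (p : G) (f : Fin 16 → G) {L : List G} (hL : L = p :: List.ofFn f)
    {H : Subgroup G} (h : ∀ k, f k ∈ H) : evG L w0 ∈ H := by
  have h0 : ∀ k ∈ w0, getG L k ∈ H := by
    intro k hk
    have h2 : ∀ k ∈ w0, ∃ j : Fin 16, k = j + 1 := by decide
    obtain ⟨j, rfl⟩ := h2 k hk
    have h2 : getG L (j + 1) = f j := by
      unfold getG
      rw [hL, List.getD_cons_succ, List.getD_eq_getElem _ _ (by simp), List.getElem_ofFn]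
    rw [h2]
    exact h j
  revert h0
  generalize w0 = w
  intro h0
  induction w with
  | nil => exact H.one_mem
  | cons a w ih =>
    rw [evG_cons]
    exact H.mul_mem (h0 a List.mem_cons_self) (ih fun k hk => h0 k (List.mem_cons_of_mem _ hk))

/-- `Phi` and the generators -/
def LP : List (GL (Fin 78) (ZMod 2)) := Phi :: List.ofFn gM

theorem codes_ofFn {n m : ℕ} (f : Fin m → GL (Fin n) (ZMod 2)) (l : List ℕ) (hl : l.length = m)
    (h : ∀ i : Fin m, Codes n (f i) (l.getD i 0)) : List.Forall₂ (Codes n) (List.ofFn f) l := by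
  rw [List.forall₂_iff_get]
  refine ⟨by simp [hl], fun i h2 h3 => ?_⟩
  simp only [List.get_eq_getElem, List.getElem_ofFn]
  have h4 := h ⟨i, by simpa using h2⟩
  rwa [List.getD_eq_getElem _ _ h3] at h4

theorem codes_LP : List.Forall₂ (Codes 78) LP (mPhi :: Ms) :=
  List.Forall₂.cons codes_Phi (codes_ofFn gM Ms (by decide +kernel) codes_gM)

theorem chk : check 78 (mPhi :: Ms) ws [([0, 4], []), ([5, 4], [4, 5])] [([4], []), ([11], [12])] = true := by
  decide +kernel

/-- the element of order 17 -/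
def g17 : GL (Fin 78) (ZMod 2) := evG LP w0

theorem facts : g17 ^ 17 = 1 ∧ Phi * g17 = g17 * Phi ∧ g17 ≠ 1 ∧ gM 5 ≠ gM 6 := by
  obtain ⟨h1, h2⟩ := check_sound (by norm_num) codes_LP chk
  obtain ⟨e1, e2, e3, e4, e5, e6⟩ := run_facts Phi gM (L := LP) rfl
  refine ⟨?_, ?_, ?_, ?_⟩
  · exact e1.symm.trans (h1 ([0, 4], []) (by simp))
  · exact e2.symm.trans ((h1 ([5, 4], [4, 5]) (by simp)).trans e3)
  · exact fun h => h2 ([4], []) (by simp) (e4.trans h)
  · exact fun h => h2 ([11], [12]) (by simp) ((e5.trans h).trans e6.symm)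

theorem g17_mem : g17 ∈ Gam := mem_facts Phi gM rfl fun k => Subgroup.subset_closure ⟨k, rfl⟩

/-- conjugation by an involution normalizing a subgroup -/
def cji {G : Type*} [Group G] (p : G) (hp : p * p = 1) (H : Subgroup G) (h : ∀ g ∈ H, p * g * p ∈ H) : MulAut ↥H where
  toFun y := ⟨p * y * p, h _ y.2⟩
  invFun y := ⟨p * y * p, h _ y.2⟩
  left_inv y := Subtype.ext (by
    show p * (p * y * p) * p = y
    calc p * (p * (y : G) * p) * p = (p * p) * y * (p * p) := by simp only [mul_assoc]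
      _ = y := by rw [hp, one_mul, mul_one])
  right_inv y := Subtype.ext (by
    show p * (p * y * p) * p = y
    calc p * (p * (y : G) * p) * p = (p * p) * y * (p * p) := by simp only [mul_assoc]
      _ = y := by rw [hp, one_mul, mul_one])
  map_mul' y z := Subtype.ext (by
    show p * (y * z) * p = (p * y * p) * (p * z * p)
    calc p * ((y : G) * z) * p = p * y * 1 * z * p := by simp only [mul_one, mul_assoc]
      _ = (p * y * p) * (p * z * p) := by rw [← hp]; simp only [mul_assoc])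

/-- an involutory automorphism fixing an element of order 17 -/
def HasInv (G : Type*) [Group G] : Prop :=
  ∃ (σ : MulAut G) (x : G), orderOf x = 17 ∧ σ * σ = 1 ∧ σ ≠ 1 ∧ σ x = x

theorem HasInv.congr {G G' : Type*} [Group G] [Group G'] (e : G ≃* G') (h : HasInv G) : HasInv G' := by
  obtain ⟨σ, x, h1, h2, h3, h4⟩ := h
  refine ⟨MulAut.congr e σ, e x, ?_, ?_, ?_, ?_⟩
  · rw [MulEquiv.orderOf_eq]; exact h1
  · rw [← map_mul, h2, map_one]
  · rw [ne_eq, MulEquiv.map_eq_one_iff]
    exact h3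
  · simp [MulAut.congr, h4]

theorem exists_of {G : Type*} [Group G] (p : G) (hp : p * p = 1) (H : Subgroup G) (h : ∀ g ∈ H, p * g * p ∈ H)
    {g a b : G} (hg : g ^ 17 = 1) (hc : p * g = g * p) (hg1 : g ≠ 1) (hgH : g ∈ H) (ha : a ∈ H) (hab : p * a * p = b)
    (hne : a ≠ b) : HasInv ↥H := by
  have : Fact (Nat.Prime 17) := ⟨by norm_num⟩
  refine ⟨cji p hp H h, ⟨g, hgH⟩, ?_, ?_, ?_, ?_⟩
  · refine orderOf_eq_prime (Subtype.ext ?_) fun h => hg1 (congrArg Subtype.val h)
    rw [Subgroup.coe_pow]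
    exact hg
  · exact MulEquiv.ext fun y => (cji p hp H h).left_inv y
  · intro h1
    apply hne
    have h5 := congrArg Subtype.val (DFunLike.congr_fun h1 (⟨a, ha⟩ : ↥H))
    have h6 : p * a * p = a := h5
    exact h6.symm.trans hab
  · apply Subtype.ext
    show p * g * p = g
    rw [hc, mul_assoc, hp, mul_one]

theorem gM_mem (k : Fin 16) : gM k ∈ Gam := Subgroup.subset_closure ⟨k, rfl⟩

theorem bar5 : bar 5 = 6 := by decide

theorem exists_gam : HasInv ↥Gam := by
  refine exists_of (G := GL (Fin 78) (ZMod 2)) Phi ?_ Gam ?_ ?_ ?_ ?_ ?_ ?_ ?_ ?_ (g := g17) (a := gM 5) (b := gM 6)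
  · exact Phi_sq
  · exact fun _ hg => Phi_conj_mem hg
  · exact facts.1
  · exact facts.2.1
  · exact facts.2.2.1
  · exact g17_mem
  · exact gM_mem 5
  · exact ((Phi_gM 5).trans (congrArg gM bar5))
  · exact facts.2.2.2

/-- **An involutory automorphism fixing an element of order 17.** -/
theorem exists_inv (K : Type*) [Field K] [Fintype K] (hK : Fintype.card K = 4) : HasInv ↥(twistedE6 K 2) := by
  obtain ⟨e⟩ := nonempty_equiv K hK
  refine HasInv.congr (G := ↥Gam) e.symm ?_
  exact exists_gam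

end Cfsg.Agent.H142.Der.Seventeen
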