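import Cfsg.Agent.H81.DerTwo
import Cfsg.Agent.H142.Der.Torus
import Cfsg.Agent.H142.Der.Seventeen
import Cfsg.Agent.H190.Exc.Defs

/-!
# `²E₆(2)` in S3502: the prime 17 (helper142)

* `cent17` : `|C(x)| = 17`, `|conjPow x| = 8`
* `not_SC17`
-/

set_option autoImplicit false

namespace Cfsg.Agent.H142.Der

open Subgroup Cfsg.Agent.H439.Der Cfsg.Agent.H632.Der Cfsg.Agent.H81.Der

universe u

variable {T : Type u} [Group T] [Finite T]

theorem cent17 (hT : Nat.card T = NT) (hcc : H190.Exc.CC T 17)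
    (hcd : ∀ x : T, orderOf x = 17 → Nat.card (centralizer ({x} : Set T)) ∣ 3 * 17) {x : T} (hx : orderOf x = 17) :
    Nat.card (centralizer ({x} : Set T)) = 17 ∧ Nat.card (conjPow x) = 8 := by
  have h17 : Nat.Prime 17 := by norm_num
  have h1 := hcd x hx
  have hxm : x ∈ centralizer ({x} : Set T) := mem_centralizer_singleton_iff.2 rfl
  have h2 : 17 ∣ Nat.card (centralizer ({x} : Set T)) := by
    have h3 := orderOf_dvd_natCard (⟨x, hxm⟩ : centralizer ({x} : Set T))
    rwa [Subgroup.orderOf_mk, hx] at h3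
  have huniq : ∀ y, orderOf y = 17 → y * x = x * y → y ∈ zpowers x := fun y hy hyx =>
    mem_zpowers_of_cyclic h17 (hcc x hx) hxm hx (mem_centralizer_singleton_iff.2 hyx) hy
  obtain ⟨R, hR⟩ := (centralizer ({x} : Set T)).card_subgroup_dvd_card
  have h4 := card_conjPow_modEq h17 hx huniq hR
  have h5 := conjPow_dvd h17 hx
  have h6 := card_conjPow_le_sub_one h17 hx
  rw [hT] at hR
  unfold NT at hR
  obtain ⟨k, hk⟩ := h2
  rw [hk, mul_comm 3] at h1
  have h7 : k ∣ 3 := Nat.dvd_of_mul_dvd_mul_left (by norm_num) h1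
  unfold Nat.ModEq at h4
  rw [Nat.mod_eq_of_lt (by omega : Nat.card (conjPow x) < 17)] at h4
  rcases (Nat.dvd_prime Nat.prime_three).1 h7 with h8 | h8
  · rw [h8] at hk
    rw [hk] at hR ⊢
    refine ⟨rfl, ?_⟩
    omega
  · exfalso
    rw [h8] at hk
    rw [hk] at hR
    have h9 : Nat.card (conjPow x) = 14 := by omega
    rw [h9] at h5
    revert h5
    decide

/-- `|N(⟨x⟩)|` -/
theorem norm17 (hT : Nat.card T = NT) (hcc : H190.Exc.CC T 17)
    (hcd : ∀ x : T, orderOf x = 17 → Nat.card (centralizer ({x} : Set T)) ∣ 3 * 17) {x : T} (hx : orderOf x = 17) :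
    Nat.card (normalizer (zpowers x : Set T)) = 136 := by
  rw [← card_conjPow_mul x, (cent17 hT hcc hcd hx).1, (cent17 hT hcc hcd hx).2]

/-- the automorphisms leaving `⟨x⟩` invariant -/
def autP (x : T) : Subgroup (MulAut T) where
  carrier := {φ | φ x ∈ zpowers x}
  one_mem' := mem_zpowers x
  mul_mem' := by
    intro a b ha hb
    obtain ⟨i, hi⟩ := mem_zpowers_iff.1 hb
    show a (b x) ∈ zpowers x
    rw [← hi, map_zpow]
    exact zpow_mem ha i
  inv_mem' := by
    intro a ha
    have h1 : (zpowers x).map a.toMonoidHom = zpowers x := by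
      refine Subgroup.eq_of_le_of_card_ge ?_ ?_
      · rw [MonoidHom.map_zpowers, zpowers_le]
        exact ha
      · exact (Nat.card_congr (a.subgroupMap (zpowers x)).toEquiv).le
    have h2 : x ∈ (zpowers x).map a.toMonoidHom := by rw [h1]; exact mem_zpowers x
    obtain ⟨y, hy, hyx⟩ := h2
    have h3 : a⁻¹ x = y := by
      rw [← hyx]
      exact a.symm_apply_apply y
    show a⁻¹ x ∈ zpowers x
    rw [h3]
    exact hy

theorem card_autP_dvd (x : T) : Nat.card (autP x) ∣ Nat.card (normalizer (zpowers x : Set T)) *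
    Nat.card (Cfsg.Out T) := by
  have : Finite (MulAut T) := Finite.of_injective (fun f : MulAut T => (f : T → T)) DFunLike.coe_injective
  let f : autP x →* Cfsg.Out T := (QuotientGroup.mk' _).comp (autP x).subtype
  rw [← Subgroup.card_mul_index f.ker, Subgroup.index_ker]
  refine Nat.mul_dvd_mul ?_ (Subgroup.card_subgroup_dvd_card _)
  let g : normalizer (zpowers x : Set T) →* f.ker :=
    { toFun := fun n => ⟨⟨MulAut.conj (n : T), by
          have h0 : (n : T) ∈ normalizer (zpowers x : Set T) := n.2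
          rw [Subgroup.mem_normalizer_iff] at h0
          exact (h0 x).1 (mem_zpowers x)⟩, by
          rw [MonoidHom.mem_ker]
          exact (QuotientGroup.eq_one_iff _).2 ⟨(n : T), rfl⟩⟩
      map_one' := by
        apply Subtype.ext
        apply Subtype.ext
        exact map_one _
      map_mul' := fun a b => by
        apply Subtype.ext
        apply Subtype.ext
        exact map_mul _ _ _ }
  refine Subgroup.card_dvd_of_surjective g ?_
  rintro ⟨⟨φ, hφ⟩, hk⟩
  rw [MonoidHom.mem_ker] at hk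
  have hk' : (QuotientGroup.mk φ : Cfsg.Out T) = 1 := hk
  obtain ⟨n, hn⟩ := (QuotientGroup.eq_one_iff φ).1 hk'
  refine ⟨⟨n, ?_⟩, ?_⟩
  · apply mem_normalizer_of
    have h1 : φ x = n * x * n⁻¹ := by rw [← hn]; rfl
    rw [← h1]
    exact hφ
  · apply Subtype.ext
    apply Subtype.ext
    exact hn

/-- **17 is not `SC`.** -/
theorem not_SC17 (hT : Nat.card T = NT) (hcc : H190.Exc.CC T 17)
    (hcd : ∀ x : T, orderOf x = 17 → Nat.card (centralizer ({x} : Set T)) ∣ 3 * 17)
    (hO : Nat.card (Cfsg.Out T) = 6) (hinv : Seventeen.HasInv T) : ¬ SC T 17 := by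
  intro hs
  have : Finite (MulAut T) := Finite.of_injective (fun f : MulAut T => (f : T → T)) DFunLike.coe_injective
  obtain ⟨σ, x, hx, hσ2, hσ1, hσx⟩ := hinv
  have h17 : Nat.Prime 17 := by norm_num
  have h1 := card_autP_dvd x
  rw [norm17 hT hcc hcd hx, hO] at h1
  -- the orbit of `x`
  have horb : MulAction.orbit (autP x) x = {y : T | y ∈ zpowers x ∧ y ≠ 1} := by
    ext y
    constructor
    · rintro ⟨φ, rfl⟩
      refine ⟨φ.2, ?_⟩
      intro h2
      have h3 : (φ : MulAut T) x = 1 := h2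
      rw [MulEquiv.map_eq_one_iff] at h3
      rw [h3, orderOf_one] at hx
      omega
    · rintro ⟨hy, hy1⟩
      have hyo : orderOf y = 17 := by
        have h2 : orderOf y ∣ 17 := by
          rw [← hx]
          exact orderOf_dvd_of_mem_zpowers hy
        rcases (Nat.dvd_prime h17).1 h2 with h3 | h3
        · exact absurd (orderOf_eq_one_iff.1 h3) hy1
        · exact h3
      obtain ⟨φ, hφ⟩ := hs x y (by rw [hx]) (by rw [hyo])
      refine ⟨⟨φ, ?_⟩, hφ⟩
      show φ x ∈ zpowers x
      rw [hφ]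
      exact hy
  have hcard : (MulAction.orbit (autP x) x).ncard = 16 := by
    have h2 : {y : T | y ∈ zpowers x ∧ y ≠ 1} = (zpowers x : Set T) \ {1} := by
      ext y
      simp
    have h3 : (zpowers x : Set T).ncard = 17 := by
      rw [← Nat.card_coe_set_eq, ← hx]
      exact Nat.card_zpowers x
    rw [horb, h2, Set.ncard_sdiff_singleton_of_mem (one_mem (zpowers x)), h3]
  have h2 := (MulAction.stabilizer (autP x) x).card_mul_index
  rw [MulAction.index_stabilizer, hcard] at h2
  -- an involution in the stabilizer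
  have h3 : 2 ∣ Nat.card (MulAction.stabilizer (autP x) x) := by
    have hm : σ ∈ autP x := by
      show σ x ∈ zpowers x
      rw [hσx]
      exact mem_zpowers x
    have hm2 : (⟨σ, hm⟩ : autP x) ∈ MulAction.stabilizer (autP x) x := hσx
    have h4 := orderOf_dvd_natCard (⟨⟨σ, hm⟩, hm2⟩ : MulAction.stabilizer (autP x) x)
    rw [Subgroup.orderOf_mk, Subgroup.orderOf_mk] at h4
    have : Fact (Nat.Prime 2) := ⟨Nat.prime_two⟩
    have h5 : orderOf σ = 2 := orderOf_eq_prime (by rw [pow_two]; exact hσ2) hσ1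
    rwa [h5] at h4
  rw [← h2] at h1
  obtain ⟨k, hk⟩ := h3
  rw [hk] at h1
  have h4 : 32 * k ∣ 32 * 25 + 16 := by
    have e : 2 * k * 16 = 32 * k := by ring
    rw [e] at h1
    exact h1
  have h5 : 32 ∣ 32 * 25 + 16 := (dvd_mul_right 32 k).trans h4
  revert h5
  decide

end Cfsg.Agent.H142.Der
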