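import Cfsg.Agent.H142.Der.TwoAbs

/-!
# `²E₆(2)` in S3502: the subgroups of order divisible by `5 · 7 · 11 · 17` (helper142)

* `card_max` : proper subgroups of order divisible by `5`, `7`, `11`, `17` have the order of `Ω₁₀⁻(2)`
-/

set_option autoImplicit false
set_option linter.unusedSectionVars false

namespace Cfsg.Agent.H142.Der

open Subgroup Cfsg.Agent.OrdDiv Cfsg.Agent.H439.Der Cfsg.Agent.H632.Der Cfsg.Agent.H81.Der
open Cfsg (IsKnownSimple')

universe u

/-- the order of `Ω₁₀⁻(2)` -/
def N0 : ℕ := 25015379558400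

theorem tabN0 : (cands lT NT).filter (fun g => (miss (ordN g) == [13, 19]) && !(Nat.beq (ordN g) N0)) = [] := by
  decide +kernel

/-- the simple groups -/
theorem card_of_simple (tab : OrderTable.{u})
    (hS : ∀ (X : Type u) [Group X] [Finite X] [IsSimpleGroup X], IsKnownSimple' X)
    {S : Type u} [Group S] [Finite S] [IsSimpleGroup S] (hd : Nat.card S ∣ NT) (h5 : 5 ∣ Nat.card S)
    (h7 : 7 ∣ Nat.card S) (h11 : 11 ∣ Nat.card S) (h17 : 17 ∣ Nat.card S) (h13 : ¬ 13 ∣ Nat.card S)
    (h19 : ¬ 19 ∣ Nat.card S) : Nat.card S = N0 := by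
  by_contra hne
  have hab : ¬ ∀ a b : S, a * b = b * a := by
    intro hab
    have hcm : IsMulCommutative S := ⟨⟨hab⟩⟩
    let _ : CommGroup S := { (inferInstance : Group S) with mul_comm := hab }
    have h2 : (Nat.card S).Prime := IsSimpleGroup.prime_card
    have e5 := (Nat.prime_dvd_prime_iff_eq (by norm_num) h2).1 h5
    have e7 := (Nat.prime_dvd_prime_iff_eq (by norm_num) h2).1 h7
    exact absurd (e5.trans e7.symm) (by norm_num)
  have hm : miss (Nat.card S) = [13, 19] := by
    unfold miss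
    have e5 : Nat.card S % 5 = 0 := Nat.mod_eq_zero_of_dvd h5
    have e7 : Nat.card S % 7 = 0 := Nat.mod_eq_zero_of_dvd h7
    have e11 : Nat.card S % 11 = 0 := Nat.mod_eq_zero_of_dvd h11
    have e17 : Nat.card S % 17 = 0 := Nat.mod_eq_zero_of_dvd h17
    have e13 : ¬ Nat.card S % 13 = 0 := fun h => h13 (Nat.dvd_of_mod_eq_zero h)
    have e19 : ¬ Nat.card S % 19 = 0 := fun h => h19 (Nat.dvd_of_mod_eq_zero h)
    simp [e5, e7, e11, e17, e13, e19]
  obtain ⟨g, hg, -⟩ := exists_real_filter tab (hS S) hab vT hd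
    (fun n => (miss n == [13, 19]) && !(Nat.beq n N0)) (by
      have h3 : Nat.beq (Nat.card S) N0 = false := by
        rw [Bool.eq_false_iff]
        exact fun h => hne (Nat.eq_of_beq_eq_true h)
      show ((miss (Nat.card S) == [13, 19]) && !(Nat.beq (Nat.card S) N0)) = true
      rw [h3, hm]
      rfl)
  rw [tabN0] at hg
  exact absurd hg (by simp)

variable {T : Type u} [Group T] [Finite T]

omit [Finite T] in
/-- the centralizers in a subgroup -/
theorem card_cent_of_inj {H : Type u} [Group H] [Finite H] (ι : H →* T) (hι : Function.Injective ι) {x : H} {n : ℕ}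
    (hc : Nat.card (centralizer ({ι x} : Set T)) ∣ n) : Nat.card (centralizer ({x} : Set H)) ∣ n := by
  let f : centralizer ({x} : Set H) →* centralizer ({ι x} : Set T) :=
    (ι.comp (Subgroup.subtype _)).codRestrict _ (fun z => by
      rw [mem_centralizer_singleton_iff]
      have h1 := congrArg ι (mem_centralizer_singleton_iff.1 z.2)
      rw [map_mul, map_mul] at h1
      exact h1)
  have hf : Function.Injective f := fun a b h =>
    Subtype.ext (hι (congrArg (fun z : centralizer ({ι x} : Set T) => (z : T)) h))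
  exact (Subgroup.card_dvd_of_injective f hf).trans hc

omit [Finite T] in
/-- **normal subgroups of order prime to 17** -/
theorem trivial_of_normal (hT : Nat.card T = NT)
    (hc : ∀ x : T, orderOf x = 17 → Nat.card (centralizer ({x} : Set T)) = 17)
    (hloc : ∀ Q : Subgroup T, IsPGroup 2 Q → Q ≠ ⊥ →
      ¬ (17 ∣ Nat.card (normalizer (Q : Set T)) ∧ 11 ∣ Nat.card (normalizer (Q : Set T))))
    {H : Type u} [Group H] [Finite H] (ι : H →* T) (hι : Function.Injective ι)
    (h17 : 17 ∣ Nat.card H) (h11 : 11 ∣ Nat.card H) (L : Subgroup H) [hLn : L.Normal] (hL : ¬ 17 ∣ Nat.card L) :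
    L = ⊥ := by
  by_contra hne
  have p17 : Nat.Prime 17 := by norm_num
  have hHN : Nat.card H ∣ NT := hT ▸ Subgroup.card_dvd_of_injective ι hι
  have hcH : ∀ x : H, orderOf x = 17 → Nat.card (centralizer ({x} : Set H)) ∣ 1 * 17 := by
    intro x hx
    refine card_cent_of_inj ι hι ?_
    rw [hc (ι x) (by rw [orderOf_injective ι hι, hx]), one_mul]
  have h2 : ∀ t : ℕ, t.Prime → t ∣ Nat.card L → t = 2 := fun t ht htL =>
    fpf_two (v := 17) (by simp) ht hHN (fpf_of_dvd p17 ht h17 hcH hL htL (fun h => ht.one_lt.ne' (Nat.dvd_one.1 h)))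
  have hL2 : IsPGroup 2 L := IsPGroup.of_card
    (Nat.eq_prime_pow_of_unique_prime_dvd (Nat.card_pos (α := L)).ne' fun hd hdv => h2 _ hd hdv)
  have hle : ι.range ≤ normalizer ((L.map ι : Subgroup T) : Set T) := by
    rintro _ ⟨h, rfl⟩
    rw [Subgroup.mem_normalizer_iff]
    intro z
    constructor
    · rintro ⟨l, hl, rfl⟩
      exact ⟨h * l * h⁻¹, hLn.conj_mem l hl h, by simp⟩
    · rintro ⟨l, hl, hlz⟩
      refine ⟨h⁻¹ * l * h, by simpa using hLn.conj_mem l hl h⁻¹, ?_⟩
      rw [map_mul, map_mul, map_inv, hlz]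
      group
  have hcard : Nat.card ι.range = Nat.card H := Nat.card_congr (MonoidHom.ofInjective hι).toEquiv.symm
  refine hloc (L.map ι) (hL2.map ι) (fun h => hne ?_) ⟨?_, ?_⟩
  · exact (Subgroup.map_eq_bot_iff_of_injective L hι).1 h
  · exact (hcard ▸ h17 : 17 ∣ Nat.card ι.range).trans (Subgroup.card_dvd_of_le hle)
  · exact (hcard ▸ h11 : 11 ∣ Nat.card ι.range).trans (Subgroup.card_dvd_of_le hle)

theorem sq17 {n : ℕ} (h : n ∣ NT) : ¬ 17 ^ 2 ∣ n := fun h1 => absurd (h1.trans h) (by decide +kernel)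

/-- elements of order 17 are in the normal subgroups of order divisible by 17 -/
theorem mem_of_order {H : Type u} [Group H] [Finite H] (hH : ¬ 17 ^ 2 ∣ Nat.card H) (N : Subgroup H) [hN : N.Normal]
    (hd : 17 ∣ Nat.card N) {z : H} (hz : orderOf z = 17) : z ∈ N := by
  have p17 : Fact (Nat.Prime 17) := ⟨by norm_num⟩
  obtain ⟨w, hw⟩ := exists_prime_orderOf_dvd_card' 17 hd
  have hw' : orderOf (w : H) = 17 := by rw [Subgroup.orderOf_coe, hw]
  have hfac : ∀ v : H, orderOf v = 17 → Nat.card (zpowers v) = 17 ^ (Nat.card H).factorization 17 := by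
    intro v hv
    have h0 : Nat.card H ≠ 0 := Nat.card_pos.ne'
    have h1 : 17 ∣ Nat.card H := hv ▸ orderOf_dvd_natCard v
    have h2 := (p17.out.dvd_iff_one_le_factorization h0).1 h1
    have h3 : ¬ 2 ≤ (Nat.card H).factorization 17 := fun h => hH ((p17.out.pow_dvd_iff_le_factorization h0).2 h)
    have h4 : (Nat.card H).factorization 17 = 1 := by omega
    rw [h4, pow_one, Nat.card_zpowers, hv]
  let P : Sylow 17 H := Sylow.ofCard (zpowers z) (hfac z hz)
  let Q : Sylow 17 H := Sylow.ofCard (zpowers (w : H)) (hfac _ hw')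
  obtain ⟨g, hg⟩ := MulAction.exists_smul_eq H Q P
  have h1 : z ∈ (g • Q : Sylow 17 H) := by
    rw [hg]
    exact mem_zpowers z
  have h2 : z ∈ ((g • Q : Sylow 17 H) : Subgroup H) := h1
  rw [Sylow.coe_subgroup_smul, Subgroup.mem_pointwise_smul_iff_inv_smul_mem] at h2
  have h3 : g⁻¹ * z * g ∈ zpowers (w : H) := by
    have h4 : (MulAut.conj g)⁻¹ z ∈ zpowers (w : H) := h2
    have h5 : (MulAut.conj g)⁻¹ z = g⁻¹ * z * g := by rw [← map_inv, MulAut.conj_apply, inv_inv]
    rwa [h5] at h4
  have h4 : g⁻¹ * z * g ∈ N := (zpowers_le.2 w.2) h3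
  have h5 := hN.conj_mem _ h4 g
  have h6 : g * (g⁻¹ * z * g) * g⁻¹ = z := by group
  rwa [h6] at h5

/-- the normalizer of `⟨y⟩` in a subgroup -/
theorem card_norm_of_inj {H : Type u} [Group H] [Finite H] (ι : H →* T) (hι : Function.Injective ι) (y : H) :
    Nat.card (normalizer (zpowers y : Set H)) ∣ Nat.card (normalizer (zpowers (ι y) : Set T)) := by
  let f : normalizer (zpowers y : Set H) →* normalizer (zpowers (ι y) : Set T) :=
    (ι.comp (Subgroup.subtype _)).codRestrict _ (fun z => by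
      have h1 : (z : H) ∈ normalizer (zpowers y : Set H) := z.2
      rw [Subgroup.mem_normalizer_iff] at h1
      obtain ⟨k, hk⟩ := mem_zpowers_iff.1 ((h1 y).1 (mem_zpowers y))
      apply mem_normalizer_of
      refine mem_zpowers_iff.2 ⟨k, ?_⟩
      have h2 := congrArg ι hk
      rw [map_zpow, map_mul, map_mul, map_inv] at h2
      exact h2)
  have hf : Function.Injective f := fun a b h =>
    Subtype.ext (hι (congrArg (fun z : normalizer (zpowers (ι y) : Set T) => (z : T)) h))
  exact Subgroup.card_dvd_of_injective f hf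

/-- **The subgroups of order divisible by `5 · 7 · 11 · 17`.** -/
theorem card_max (tab : OrderTable.{u})
    (hS : ∀ (X : Type u) [Group X] [Finite X] [IsSimpleGroup X], IsKnownSimple' X) (hT : Nat.card T = NT)
    (hc : ∀ x : T, orderOf x = 17 → Nat.card (centralizer ({x} : Set T)) = 17)
    (hn : ∀ x : T, orderOf x = 17 → Nat.card (normalizer (zpowers x : Set T)) = 136)
    (hloc : ∀ Q : Subgroup T, IsPGroup 2 Q → Q ≠ ⊥ →
      ¬ (17 ∣ Nat.card (normalizer (Q : Set T)) ∧ 11 ∣ Nat.card (normalizer (Q : Set T))))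
    {M : Subgroup T} (h5 : 5 ∣ Nat.card M) (h7 : 7 ∣ Nat.card M) (h11 : 11 ∣ Nat.card M) (h17 : 17 ∣ Nat.card M)
    (h13 : ¬ 13 ∣ Nat.card M) (h19 : ¬ 19 ∣ Nat.card M) : Nat.card M = N0 := by
  have p17 : Fact (Nat.Prime 17) := ⟨by norm_num⟩
  have hMN : Nat.card M ∣ NT := hT ▸ Subgroup.card_subgroup_dvd_card M
  obtain ⟨y, hy⟩ := exists_prime_orderOf_dvd_card' (G := M) 17 h17
  have hyT : orderOf (y : T) = 17 := by rw [Subgroup.orderOf_coe, hy]
  -- the normal closure
  obtain ⟨S, hSd⟩ : ∃ S, S = Subgroup.normalClosure ({y} : Set M) := ⟨_, rfl⟩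
  have hSn : S.Normal := by rw [hSd]; exact Subgroup.normalClosure_normal
  have hyS : y ∈ S := by rw [hSd]; exact Subgroup.subset_normalClosure rfl
  have hys : orderOf (⟨y, hyS⟩ : S) = 17 := by rw [Subgroup.orderOf_mk, hy]
  have hS17 : 17 ∣ Nat.card S := hys ▸ orderOf_dvd_natCard _
  let ι : S →* T := M.subtype.comp S.subtype
  have hι : Function.Injective ι := M.subtype_injective.comp S.subtype_injective
  have hSN : Nat.card S ∣ NT := hT ▸ Subgroup.card_dvd_of_injective ι hι
  have hcardM := S.card_mul_index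
  -- the Frattini argument
  have hsyl : Nat.card (zpowers (⟨y, hyS⟩ : S)) = 17 ^ (Nat.card S).factorization 17 := by
    have h0 : Nat.card S ≠ 0 := Nat.card_pos.ne'
    have h2 := (p17.out.dvd_iff_one_le_factorization h0).1 hS17
    have h3 : ¬ 2 ≤ (Nat.card S).factorization 17 := fun h =>
      sq17 hSN ((p17.out.pow_dvd_iff_le_factorization h0).2 h)
    have h4 : (Nat.card S).factorization 17 = 1 := by omega
    rw [h4, pow_one, Nat.card_zpowers, hys]
  let P : Sylow 17 S := Sylow.ofCard (zpowers (⟨y, hyS⟩ : S)) hsyl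
  have hPm : (P : Subgroup S).map S.subtype = zpowers y := by
    show (zpowers (⟨y, hyS⟩ : S)).map S.subtype = _
    rw [MonoidHom.map_zpowers]
    rfl
  have hfr := Sylow.normalizer_sup_eq_top (N := S) P
  rw [hPm] at hfr
  have hidx : S.index ∣ 136 := by
    have h1 := index_dvd_norm P
    rw [hPm] at h1
    have h2 := card_norm_of_inj M.subtype M.subtype_injective y
    rw [show M.subtype y = (y : T) from rfl, hn _ hyT] at h2
    exact h1.trans h2
  have key : ∀ t : ℕ, t.Prime → ¬ t ∣ 136 → t ∣ Nat.card M → t ∣ Nat.card S := by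
    intro t ht h1 h2
    rw [← hcardM] at h2
    exact (ht.dvd_mul.1 h2).resolve_right fun h3 => h1 (h3.trans hidx)
  have k5 := key 5 (by norm_num) (by norm_num) h5
  have k7 := key 7 (by norm_num) (by norm_num) h7
  have k11 := key 11 (by norm_num) (by norm_num) h11
  have k13 : ¬ 13 ∣ Nat.card S := fun h => h13 (h.trans (Subgroup.card_subgroup_dvd_card S))
  have k19 : ¬ 19 ∣ Nat.card S := fun h => h19 (h.trans (Subgroup.card_subgroup_dvd_card S))
  -- `S` is simple
  have hnt : Nontrivial S := by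
    rw [← Finite.one_lt_card_iff_nontrivial]
    exact lt_of_lt_of_le (by norm_num) (Nat.le_of_dvd Nat.card_pos hS17)
  have hsimple : IsSimpleGroup S := by
    refine ⟨fun N hN => ?_⟩
    by_cases h1 : 17 ∣ Nat.card N
    · right
      have h2 : ∀ z : S, orderOf z = 17 → z ∈ N := fun z hz => mem_of_order (sq17 hSN) N h1 hz
      have h3 : S ≤ N.map S.subtype := by
        have h4 : Group.conjugatesOfSet ({y} : Set M) ⊆ (N.map S.subtype : Subgroup M) := by
          intro z hz
          obtain ⟨a, ha, hza⟩ := Group.mem_conjugatesOfSet_iff.1 hz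
          rw [Set.mem_singleton_iff] at ha
          rw [ha] at hza
          obtain ⟨g, hg⟩ := isConj_iff.1 hza
          have hzS : z ∈ S := by
            rw [← hg]
            exact hSn.conj_mem _ hyS g
          have hzo : orderOf z = 17 := by rw [← hg, orderOf_conj, hy]
          exact ⟨⟨z, hzS⟩, h2 _ (by rw [Subgroup.orderOf_mk, hzo]), rfl⟩
        conv_lhs => rw [hSd]
        exact (Subgroup.closure_le _).2 h4
      rw [eq_top_iff]
      intro z _
      obtain ⟨w, hw, hwz⟩ := h3 z.2
      have h5 : w = z := Subtype.ext hwz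
      rwa [← h5]
    · left
      exact trivial_of_normal hT hc hloc ι hι hS17 k11 N h1
  have hScard := card_of_simple tab hS hSN k5 k7 k11 hS17 k13 k19
  -- the normalizer of `⟨y⟩` in `S`
  have hcS : Nat.card (centralizer ({(⟨y, hyS⟩ : S)} : Set S)) = 17 := by
    have h1 : Nat.card (centralizer ({(⟨y, hyS⟩ : S)} : Set S)) ∣ 17 :=
      card_cent_of_inj ι hι (by rw [hc (ι ⟨y, hyS⟩) hyT])
    have h2 : (⟨y, hyS⟩ : S) ∈ centralizer ({(⟨y, hyS⟩ : S)} : Set S) := mem_centralizer_singleton_iff.2 rfl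
    have h3 := orderOf_dvd_natCard (⟨_, h2⟩ : centralizer ({(⟨y, hyS⟩ : S)} : Set S))
    rw [Subgroup.orderOf_mk, hys] at h3
    exact Nat.dvd_antisymm h1 h3
  have hnS : Nat.card (normalizer (zpowers (⟨y, hyS⟩ : S) : Set S)) = 136 := by
    have h1 := card_conjPow_modEq (R := N0 / 17) p17.out hys (fun z hz hzy => by
        have h2 : z ∈ centralizer ({(⟨y, hyS⟩ : S)} : Set S) := mem_centralizer_singleton_iff.2 hzy
        have h3 : zpowers (⟨y, hyS⟩ : S) = centralizer ({(⟨y, hyS⟩ : S)} : Set S) := by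
          refine Subgroup.eq_of_le_of_card_ge ?_ ?_
          · rw [zpowers_le, mem_centralizer_singleton_iff]
          · rw [hcS, Nat.card_zpowers, hys]
        rw [h3]
        exact h2) (by rw [hcS, hScard]; decide +kernel)
    have h2 := card_conjPow_le_sub_one p17.out hys
    have h3 : Nat.card (conjPow (⟨y, hyS⟩ : S)) = 8 := by
      have h4 : (N0 / 17) % 17 = 8 := by decide +kernel
      unfold Nat.ModEq at h1
      rw [h4, Nat.mod_eq_of_lt (lt_of_le_of_lt h2 (by norm_num))] at h1
      exact h1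
    rw [← card_conjPow_mul, h3, hcS]
  -- the normalizer in `M` is in `S`
  have hle : normalizer (zpowers y : Set M) ≤ S := by
    have h1 : (normalizer (zpowers (⟨y, hyS⟩ : S) : Set S)).map S.subtype ≤ normalizer (zpowers y : Set M) := by
      rintro _ ⟨z, hz, rfl⟩
      rw [SetLike.mem_coe, Subgroup.mem_normalizer_iff] at hz
      apply mem_normalizer_of
      obtain ⟨k, hk⟩ := mem_zpowers_iff.1 ((hz _).1 (mem_zpowers (⟨y, hyS⟩ : S)))
      exact mem_zpowers_iff.2 ⟨k, congrArg Subtype.val hk⟩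
    have h2 : Nat.card (normalizer (zpowers y : Set M)) ≤ 136 := by
      have h3 := card_norm_of_inj M.subtype M.subtype_injective y
      rw [show M.subtype y = (y : T) from rfl, hn _ hyT] at h3
      exact Nat.le_of_dvd (by norm_num) h3
    have h3 : Nat.card ((normalizer (zpowers (⟨y, hyS⟩ : S) : Set S)).map S.subtype) = 136 := by
      rw [← hnS]
      exact Nat.card_congr (Subgroup.equivMapOfInjective _ S.subtype S.subtype_injective).toEquiv.symm
    have h4 := Subgroup.eq_of_le_of_card_ge h1 (by rw [h3]; exact h2)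
    rw [← h4]
    exact Subgroup.map_subtype_le _
  have htop : S = ⊤ := by
    rw [← hfr]
    exact (sup_eq_right.2 hle).symm
  rw [← hScard, htop]
  exact (Nat.card_congr Subgroup.topEquiv.toEquiv).symm

end Cfsg.Agent.H142.Der
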