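import Cfsg.Agent.H142.Der.Rows
import Cfsg.Agent.H142.Der.TwoMax
import Cfsg.Agent.H142.Der.Loc

/-!
# `²E₆(2)` in S3502: the row (helper142)

* `rowS_te6_two` : `RowS` for `²E₆(2)`
* `rowS_e6_of`, `rowS_te6_of` : the rows from the theorem on subgroups with the same primes
-/

set_option autoImplicit false
set_option linter.unusedSectionVars false

namespace Cfsg.Agent.H142.Der

open Cfsg Cfsg.Lie
open Cfsg.Agent.OrdDiv Cfsg.Agent.H439.Der Cfsg.Agent.H81.Der Cfsg.Agent.H938.Sax
open Cfsg.Agent.H436 (Prim)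

universe u

theorem primes_NT {p : ℕ} (hp : p.Prime) (h : p ∣ NT) : p = 2 ∨ p = 3 ∨ p = 5 ∨ p = 7 ∨ p = 11 ∨ p = 13 ∨ p = 17 ∨
    p = 19 := by
  have h1 : NT = 2 ^ 36 * 3 ^ 9 * 5 ^ 2 * 7 ^ 2 * 11 * 13 * 17 * 19 := by decide +kernel
  rw [h1] at h
  have key : ∀ q : ℕ, q.Prime → p ∣ q → p = q := fun q hq hd => (Nat.prime_dvd_prime_iff_eq hp hq).1 hd
  rcases hp.dvd_mul.1 h with h | h
  · rcases hp.dvd_mul.1 h with h | h
    · rcases hp.dvd_mul.1 h with h | h
      · rcases hp.dvd_mul.1 h with h | h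
        · rcases hp.dvd_mul.1 h with h | h
          · rcases hp.dvd_mul.1 h with h | h
            · rcases hp.dvd_mul.1 h with h | h
              · have := key 2 (by norm_num) (hp.dvd_of_dvd_pow h); omega
              · have := key 3 (by norm_num) (hp.dvd_of_dvd_pow h); omega
            · have := key 5 (by norm_num) (hp.dvd_of_dvd_pow h); omega
          · have := key 7 (by norm_num) (hp.dvd_of_dvd_pow h); omega
        · have := key 11 (by norm_num) h; omega
      · have := key 13 (by norm_num) h; omega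
    · have := key 17 (by norm_num) h; omega
  · have := key 19 (by norm_num) h; omega

theorem rowS_of {T : Type u} [Group T] [Finite T] (hT : Nat.card T = NT)
    (hscc : ∀ v, v = 2 ∨ v = 3 ∨ v = 5 ∨ v = 7 ∨ v = 11 → ¬ SCC T v) (h17 : ¬ SC T 17)
    (hmiss : ∀ M : Subgroup T, M ≠ ⊤ → MissTwo T M)
    (hmax : ∀ M : Subgroup T, 5 ∣ Nat.card M → 7 ∣ Nat.card M → 11 ∣ Nat.card M → 17 ∣ Nat.card M →
      ¬ 13 ∣ Nat.card M → ¬ 19 ∣ Nat.card M → Nat.card M = N0) : RowS T := by
  have key : ∀ R : Subgroup T, R ≠ ⊤ → Three T R ∨ Nat.card R = N0 := by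
    intro R hR
    obtain ⟨a, b, ha, hb, hab, ha1, hb1, ha2, hb2⟩ := hmiss R hR
    by_cases h1 : ∃ v, (v = 2 ∨ v = 3 ∨ v = 5 ∨ v = 7 ∨ v = 11) ∧ ¬ v ∣ Nat.card R
    · obtain ⟨v, hv, hvR⟩ := h1
      left
      have hvp : v.Prime ∧ v ∣ NT := by
        rcases hv with rfl | rfl | rfl | rfl | rfl <;> exact ⟨by norm_num, by decide +kernel⟩
      have := Fact.mk hvp.1
      obtain ⟨x, hx⟩ := exists_prime_orderOf_dvd_card' (G := T) v (by rw [hT]; exact hvp.2)
      exact Three.of_not_dvd hvR (hscc v hv) ⟨x, by rw [hx]⟩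
    · push Not at h1
      have h2 := h1 2 (by simp)
      have h3 := h1 3 (by simp)
      have h5 := h1 5 (by simp)
      have h7 := h1 7 (by simp)
      have h11 := h1 11 (by simp)
      have hcase : ∀ p, p.Prime → p ∣ Nat.card T → ¬ p ∣ Nat.card R → p = 13 ∨ p = 17 ∨ p = 19 := by
        intro p hp hp1 hp2
        rw [hT] at hp1
        rcases primes_NT hp hp1 with h | h | h | h | h | h | h | h
        · exact absurd (h ▸ h2) hp2
        · exact absurd (h ▸ h3) hp2
        · exact absurd (h ▸ h5) hp2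
        · exact absurd (h ▸ h7) hp2
        · exact absurd (h ▸ h11) hp2
        · exact Or.inl h
        · exact Or.inr (Or.inl h)
        · exact Or.inr (Or.inr h)
      have ha3 := hcase a ha ha1 ha2
      have hb3 := hcase b hb hb1 hb2
      by_cases h17R : 17 ∣ Nat.card R
      · right
        have ha4 : a ≠ 17 := fun h => ha2 (h ▸ h17R)
        have hb4 : b ≠ 17 := fun h => hb2 (h ▸ h17R)
        rcases ha3 with h | h | h
        · rcases hb3 with h' | h' | h'
          · exact absurd (h.trans h'.symm) hab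
          · exact absurd h' hb4
          · exact hmax R h5 h7 h11 h17R (h ▸ ha2) (h' ▸ hb2)
        · exact absurd h ha4
        · rcases hb3 with h' | h' | h'
          · exact hmax R h5 h7 h11 h17R (h' ▸ hb2) (h ▸ ha2)
          · exact absurd h' hb4
          · exact absurd (h.trans h'.symm) hab
      · left
        by_cases ha4 : a = 17
        · have hb4 : b ≠ 17 := fun h => hab (ha4.trans h.symm)
          exact Three.of_two_primes (v := 17) (w := b) (by norm_num) hb (Ne.symm hb4) hb1 h17R hb2 h17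
        · exact Three.of_two_primes (v := 17) (w := a) (by norm_num) ha (Ne.symm ha4) ha1 h17R ha2 h17
  refine RowS.of_coatoms fun M hM => ?_
  rcases key M hM.1 with h1 | h1
  · exact Or.inl h1
  · refine Or.inr ⟨(hmiss M hM.1).two, fun R hR => ?_⟩
    have hRt : R ≠ ⊤ := fun h => by
      rw [h] at hR
      exact not_top_lt hR
    rcases key R hRt with h2 | h2
    · exact h2
    · exfalso
      have h3 : R = M := Subgroup.eq_of_le_of_card_ge hR.le (by rw [h1, h2])
      exact hR.ne h3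

theorem order_two_mod {v d : ℕ} (h : (2 : ZMod v) ^ d = 1) (hd : 0 < d)
    (hp : ∀ p : ℕ, p.Prime → p ∣ d → (2 : ZMod v) ^ (d / p) ≠ 1) : orderOf ((2 : ℕ) : ZMod v) = d := by
  push_cast
  exact orderOf_eq_of_pow_and_pow_div_prime hd h hp

/-- **`²E₆(2)`.** -/
theorem rowS_te6_two (tab : OrderTable.{0})
    (hS : ∀ (X : Type) [Group X] [Finite X] [IsSimpleGroup X], IsKnownSimple' X)
    {K : Type} [Field K] [Fintype K] (hK : Fintype.card K = 2 ^ 2) : RowS ↥(twistedE6 K 2) := by
  have hq : IsPrimePow 2 := Nat.prime_two.isPrimePow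
  have hT : Nat.card ↥(twistedE6 K 2) = NT := by
    have h3 := S1066.result (K := K) hq hK
    norm_num at h3
    unfold NT
    omega
  have hp17 : Prim 2 8 17 := prim_of (by norm_num) (by norm_num) (by norm_num) (by
    have : Fact (Nat.Prime 17) := ⟨by norm_num⟩
    refine orderOf_eq_of_pow_and_pow_div_prime (by norm_num) (by decide) fun p hp hd => ?_
    have h3 : p ∣ 2 := hp.dvd_of_dvd_pow (show p ∣ 2 ^ 3 from hd)
    rw [(Nat.prime_dvd_prime_iff_eq hp Nat.prime_two).1 h3]
    decide)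
  obtain ⟨hcc, hcd'⟩ := Cfsg.Agent.H190.Exc.te6_8 hq hK hp17
  have hcd : ∀ x : ↥(twistedE6 K 2), orderOf x = 17 →
      Nat.card (Subgroup.centralizer ({x} : Set ↥(twistedE6 K 2))) ∣ 3 * 17 := by
    intro x hx
    have h3 := hcd' x hx
    norm_num at h3 ⊢
    exact h3
  have hO : Nat.card (Cfsg.Out ↥(twistedE6 K 2)) = 6 := by
    have : Fact (Nat.Prime 2) := ⟨Nat.prime_two⟩
    have hch : CharP K 2 := charP_of_card_eq_prime_pow hK
    have h1 : ∀ q, q = 2 ^ 1 → Nat.card (Cfsg.Out ↥(twistedE6 K q)) = 6 := by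
      rintro q rfl
      rw [S2130.result 2 1 (by rw [hK]) (by norm_num)]
      decide
    exact h1 2 (by norm_num)
  have hsc := not_SC17 hT hcc hcd hO (Seventeen.exists_inv K (by rw [hK]; norm_num))
  have hc : ∀ x : ↥(twistedE6 K 2), orderOf x = 17 →
      Nat.card (Subgroup.centralizer ({x} : Set ↥(twistedE6 K 2))) = 17 := fun x hx => (cent17 hT hcc hcd hx).1
  refine rowS_of hT (fun v hv => ?_) hsc
    (fun M hM => missTwo_2e6 tab hS hK (MulEquiv.refl _) hM) fun M h5 h7 h11 h17 h13 h19 =>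
      card_max tab hS hT hc (fun x hx => norm17 hT hcc hcd hx) (Loc.loc hK) h5 h7 h11 h17 h13 h19
  rcases hv with rfl | rfl | rfl | rfl | rfl
  · exact small_TE6 hq hK (by norm_num) (Or.inl dvd_rfl)
  · refine small_TE6 hq hK (by norm_num) (Or.inr (Or.inr (Or.inr (Or.inl ?_))))
    refine order_two_mod (by decide) (by norm_num) fun p hp hd => ?_
    rw [(Nat.prime_dvd_prime_iff_eq hp Nat.prime_two).1 hd]
    decide
  · refine small_TE6 hq hK (by norm_num) (Or.inr (Or.inr (Or.inr (Or.inr (Or.inr (Or.inl ?_))))))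
    refine order_two_mod (by decide) (by norm_num) fun p hp hd => ?_
    have h3 : p ∣ 2 := hp.dvd_of_dvd_pow (show p ∣ 2 ^ 2 from hd)
    rw [(Nat.prime_dvd_prime_iff_eq hp Nat.prime_two).1 h3]
    decide
  · refine small_TE6 hq hK (by norm_num) (Or.inr (Or.inr (Or.inr (Or.inr (Or.inl ?_)))))
    refine order_two_mod (by decide) (by norm_num) fun p hp hd => ?_
    rw [(Nat.prime_dvd_prime_iff_eq hp Nat.prime_three).1 hd]
    decide
  · refine small_TE6 hq hK (by norm_num) (Or.inr (Or.inr (Or.inr (Or.inr (Or.inr (Or.inr (Or.inr ?_)))))))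
    refine order_two_mod (by decide) (by norm_num) fun p hp hd => ?_
    have h3 : p ∣ 2 * 5 := hd
    rcases hp.dvd_mul.1 h3 with h4 | h4
    · rw [(Nat.prime_dvd_prime_iff_eq hp Nat.prime_two).1 h4]
      decide
    · rw [(Nat.prime_dvd_prime_iff_eq hp (by norm_num)).1 h4]
      decide

theorem pgap_of_full {T : Type u} [Group T] (hfull : ∀ R : Subgroup T, (∀ r : ℕ, r.Prime → r ∣ Nat.card T →
    r ∣ Nat.card R) → R = ⊤) {M : Subgroup T} (hM : M ≠ ⊤) : PGap T M := by
  by_contra hno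
  refine hM (hfull M fun r hr hd => ?_)
  by_contra hc
  exact hno ⟨r, hr, hd, hc⟩

/-- **`E₆(q)`**, from the theorem on subgroups with the same primes -/
theorem rowS_e6_of (hfull : ∀ (F : Type) [Field F] [Fintype F] (R : Subgroup ↥(chevE6.group F)),
      (∀ r : ℕ, r.Prime → r ∣ Nat.card ↥(chevE6.group F) → r ∣ Nat.card R) → R = ⊤)
    {T : Type u} [Group T] [Finite T] (h : Cfsg.Lie.IsoChevE6 T) : RowS T := by
  obtain ⟨F, _, _, ⟨e⟩⟩ := h
  exact RowS.congr e.symm (RowS.of_pgap ntc_E6 fun M hM => pgap_of_full (hfull F) hM.1)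

/-- **`²E₆(q)`**, from the theorem on subgroups with the same primes -/
theorem rowS_2e6_of (tab : OrderTable.{0})
    (hS : ∀ (X : Type) [Group X] [Finite X] [IsSimpleGroup X], IsKnownSimple' X)
    (hfull : ∀ (K : Type) [Field K] [Fintype K] (q : ℕ), IsPrimePow q → Fintype.card K = q ^ 2 →
      ∀ R : Subgroup ↥(twistedE6 K q),
      (∀ r : ℕ, r.Prime → r ∣ Nat.card ↥(twistedE6 K q) → r ∣ Nat.card R) → R = ⊤)
    {T : Type u} [Group T] [Finite T] (h : Cfsg.Lie.Iso2E6 T) : RowS T := by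
  obtain ⟨K, _, _, q, hq, hK, ⟨e⟩⟩ := h
  refine RowS.congr e.symm ?_
  rcases Nat.lt_or_ge q 3 with h2 | h2
  · have hq2 : q = 2 := by have := hq.two_le; omega
    subst hq2
    exact rowS_te6_two tab hS hK
  · exact RowS.of_pgap (ntc_TE6 hq hK h2) fun M hM => pgap_of_full (hfull K q hq hK) hM.1

end Cfsg.Agent.H142.Der
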